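import Cfsg.Agent.Lib.Known.ScTorus.Main
import Cfsg.Agent.Lib.Known.Homocyclic.Types

/-!
# The self-centralising cyclic torus of `E₆(q)`
-/

set_option autoImplicit false
set_option maxHeartbeats 1600000

namespace CfsgLib.Known.ScTorus

open Cfsg.Lie (ChevalleyDatum chevE6)
open CfsgLib.Lie.Chev
open CfsgLib.Known.CyclicTorus (cvec castV)
open CfsgLib.Known.Homocyclic (WeylLike bE6 vE6 cE6)
open scoped Matrix
open Polynomial

/-- The inner product attached to `E₆`. -/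
def ipE6 (x y : Fin 6 → ℤ) : ℤ :=
  x 0 * (2 * y 0 - y 2) + x 1 * (2 * y 1 - y 3) + x 2 * (-y 0 + 2 * y 2 - y 3) +
    x 3 * (-y 1 - y 2 + 2 * y 3 - y 4) + x 4 * (-y 3 + 2 * y 4 - y 5) + x 5 * (-y 4 + 2 * y 5)

theorem ipE6_eq (x y : Fin 6 → ℤ) : (x ᵥ* bE6) ⬝ᵥ y = ipE6 y x := by
  rw [Homocyclic.vecMul_bE6]
  simp [ipE6, dotProduct, Fin.sum_univ_succ]
  ring

theorem ipE6_symm (x y : Fin 6 → ℤ) : ipE6 x y = ipE6 y x := by unfold ipE6; ring

theorem ipE6_even (x : Fin 6 → ℤ) : (2 : ℤ) ∣ ipE6 x x :=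
  ⟨x 0 * x 0 + x 1 * x 1 + x 2 * x 2 + x 3 * x 3 + x 4 * x 4 + x 5 * x 5 - x 0 * x 2 - x 1 * x 3 - x 2 * x 3
    - x 3 * x 4 - x 4 * x 5, by unfold ipE6; ring⟩

theorem ipE6_pos (x : Fin 6 → ℤ) : 0 ≤ ipE6 x x ∧ (ipE6 x x = 0 → x = 0) := by
  obtain ⟨a, ha⟩ : ∃ a, a = 2 * x 0 - x 2 := ⟨_, rfl⟩
  obtain ⟨b, hb⟩ : ∃ b, b = 2 * x 1 - x 3 := ⟨_, rfl⟩
  obtain ⟨c, hc⟩ : ∃ c, c = 3 * x 2 - 2 * x 3 := ⟨_, rfl⟩
  obtain ⟨d, hd⟩ : ∃ d, d = 5 * x 3 - 6 * x 4 := ⟨_, rfl⟩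
  obtain ⟨e, he⟩ : ∃ e, e = 4 * x 4 - 5 * x 5 := ⟨_, rfl⟩
  have key : 60 * ipE6 x x = 30 * a ^ 2 + 30 * b ^ 2 + 10 * c ^ 2 + 2 * d ^ 2 + 3 * e ^ 2 + 45 * x 5 ^ 2 := by
    rw [ha, hb, hc, hd, he]; unfold ipE6; ring
  refine ⟨by nlinarith [sq_nonneg a, sq_nonneg b, sq_nonneg c, sq_nonneg d, sq_nonneg e, sq_nonneg (x 5)],
    fun h => ?_⟩
  rw [h, mul_zero] at key
  have h5 : x 5 = 0 := by
    nlinarith [sq_nonneg a, sq_nonneg b, sq_nonneg c, sq_nonneg d, sq_nonneg e, sq_nonneg (x 5)]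
  have he0 : e = 0 := by
    nlinarith [sq_nonneg a, sq_nonneg b, sq_nonneg c, sq_nonneg d, sq_nonneg e, sq_nonneg (x 5)]
  have hd0 : d = 0 := by
    nlinarith [sq_nonneg a, sq_nonneg b, sq_nonneg c, sq_nonneg d, sq_nonneg e, sq_nonneg (x 5)]
  have hc0 : c = 0 := by
    nlinarith [sq_nonneg a, sq_nonneg b, sq_nonneg c, sq_nonneg d, sq_nonneg e, sq_nonneg (x 5)]
  have hb0 : b = 0 := by
    nlinarith [sq_nonneg a, sq_nonneg b, sq_nonneg c, sq_nonneg d, sq_nonneg e, sq_nonneg (x 5)]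
  have ha0 : a = 0 := by
    nlinarith [sq_nonneg a, sq_nonneg b, sq_nonneg c, sq_nonneg d, sq_nonneg e, sq_nonneg (x 5)]
  funext j
  fin_cases j <;> simp <;> omega

theorem ipE6_roots : ∀ s t : Fin 72, ipE6 (vE6 s) (vE6 s) = 2 ∧ -2 ≤ ipE6 (vE6 s) (vE6 t) ∧
    ipE6 (vE6 s) (vE6 t) ≤ 2 := by
  decide +kernel

theorem slacedE6 : SLaced chevE6 auxE6 := by
  show ∀ i k j : Fin 6, auxE6.coef j (auxE6.w k (chevE6.simple i)) =
    (if i = j then 1 else 0) - (if k = j then chevE6.cartan i (chevE6.simple k) else 0)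
  decide +kernel

theorem cartanE6 : ∀ (i : Fin 6) (s : Fin 72), chevE6.cartan i s = (vE6 s ᵥ* bE6) i := by decide +kernel

theorem invariantE6 {W : Matrix (Fin 6) (Fin 6) ℤ} (hB : W * bE6 * Wᵀ = bE6) (x y : Fin 6 → ℤ) :
    ipE6 (x ᵥ* W) (y ᵥ* W) = ipE6 x y := by
  rw [← ipE6_eq, ← ipE6_eq, Matrix.vecMul_vecMul, ← Matrix.mulVec_transpose W x,
    Matrix.dotProduct_mulVec, Matrix.vecMul_vecMul, hB]

theorem ipE6_add (x y z : Fin 6 → ℤ) : ipE6 (x + y) z = ipE6 x z + ipE6 y z := by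
  simp [ipE6]; ring

theorem ipE6_sub (x y z : Fin 6 → ℤ) : ipE6 (x - y) z = ipE6 x z - ipE6 y z := by
  simp [ipE6]; ring

theorem ipE6_sub' (x y z : Fin 6 → ℤ) : ipE6 z (x - y) = ipE6 z x - ipE6 z y := by
  simp [ipE6]; ring

theorem ipE6_add' (x y z : Fin 6 → ℤ) : ipE6 z (x + y) = ipE6 z x + ipE6 z y := by
  simp [ipE6]; ring

theorem ipE6_smul (a : ℤ) (x z : Fin 6 → ℤ) : ipE6 (a • x) z = a * ipE6 x z := by
  simp [ipE6]; ring

theorem ipE6_smul' (a : ℤ) (x z : Fin 6 → ℤ) : ipE6 z (a • x) = a * ipE6 z x := by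
  simp [ipE6]; ring

theorem ipE6_zero (z : Fin 6 → ℤ) : ipE6 0 z = 0 := by simp [ipE6]

theorem cyclotomic_twelve : cyclotomic 12 ℤ = X ^ 4 - X ^ 2 + 1 := by
  rw [show (12 : ℕ) = 6 * 2 from rfl, ← cyclotomic_expand_eq_cyclotomic Nat.prime_two (by decide) ℤ, cyclotomic_six]
  simp only [map_add, map_sub, map_pow, expand_X, map_one, ← pow_mul]

/-- A monic quadratic polynomial dividing the characteristic polynomial of a matrix of finite order has small
coefficients. -/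
theorem quad_bound {l m : ℕ} {W : Matrix (Fin l) (Fin l) ℤ} (hm : 0 < m) (hW : W ^ m = 1) {b c : ℤ}
    (h : X ^ 2 + C b * X + C c ∣ W.charpoly) : (c = 1 ∨ c = -1) ∧ -2 ≤ b ∧ b ≤ 2 := by
  obtain ⟨u, hu⟩ := h
  obtain ⟨x, hx⟩ : ∃ x : ℂ, x ^ 2 + (b : ℂ) * x + (c : ℂ) = 0 := by
    obtain ⟨s, hs⟩ := IsAlgClosed.exists_pow_nat_eq ((b : ℂ) ^ 2 - 4 * c) (n := 2) (by norm_num)
    exact ⟨(-(b : ℂ) + s) / 2, by field_simp; linear_combination hs⟩
  obtain ⟨y, hy⟩ : ∃ y : ℂ, y = -(b : ℂ) - x := ⟨_, rfl⟩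
  have hy2 : y ^ 2 + (b : ℂ) * y + (c : ℂ) = 0 := by rw [hy]; linear_combination hx
  have hroot : ∀ z : ℂ, z ^ 2 + (b : ℂ) * z + (c : ℂ) = 0 → ‖z‖ = 1 := by
    intro z hz
    refine Complex.norm_eq_one_of_pow_eq_one (Homocyclic.pow_eq_one_of_charpoly_root hW ?_) hm.ne'
    rw [hu, map_mul]
    refine mul_eq_zero_of_left ?_ _
    simp only [map_add, map_mul, map_pow, aeval_X, aeval_C]
    simpa using hz
  have hc : (c : ℂ) = x * y := by rw [hy]; linear_combination hx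
  have h1 := congrArg (fun z : ℂ => ‖z‖) hc
  simp only [norm_mul, hroot x hx, hroot y hy2, mul_one] at h1
  have h2 : ‖(b : ℂ)‖ ≤ 2 := by
    rw [show (b : ℂ) = -(x + y) from by rw [hy]; ring, norm_neg]
    exact (norm_add_le x y).trans (by rw [hroot x hx, hroot y hy2]; norm_num)
  rw [Complex.norm_intCast] at h1 h2
  have h1' : |c| = 1 := by exact_mod_cast h1
  have h2' : |b| ≤ 2 := by exact_mod_cast h2
  exact ⟨(abs_eq zero_le_one).1 h1', abs_le.1 h2'⟩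

/-- The split form of the characteristic polynomial does not occur. -/
theorem not_split {W : Matrix (Fin 6) (Fin 6) ℤ} (hB : W * bE6 * Wᵀ = bE6)
    (hc : castV (ZMod 3) (cE6 ᵥ* W) = castV (ZMod 3) cE6) (h0 : (W ^ 2 - 1) * (W ^ 4 - W ^ 2 + 1) = 0)
    (hne : W ^ 2 ≠ 1) : False := by
  obtain ⟨E, hE⟩ : ∃ E, E = W ^ 4 - W ^ 2 + 1 := ⟨_, rfl⟩
  rw [← hE] at h0
  have hWE : W ^ 2 * E = E := sub_eq_zero.1 (by rw [← h0]; noncomm_ring)
  have hEW : E * W ^ 2 = E := by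
    refine Eq.trans ?_ hWE
    rw [hE]; noncomm_ring
  have hEE : E * E = E := by
    calc E * E = (W ^ 2 * (W ^ 2 * E)) - W ^ 2 * E + E := by
          rw [show E * E = (W ^ 4 - W ^ 2 + 1) * E from congrArg (· * E) hE]
          noncomm_ring
      _ = E := by rw [hWE, hWE, sub_self, zero_add]
  have hsymB : bE6ᵀ = bE6 := by decide +kernel
  have horth : E * bE6 * (1 - E)ᵀ = 0 := by
    have hW2 : W ^ 2 * bE6 * (W ^ 2)ᵀ = bE6 := by
      rw [sq, Matrix.transpose_mul]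
      calc W * W * bE6 * (Wᵀ * Wᵀ) = W * (W * bE6 * Wᵀ) * Wᵀ := by simp only [Matrix.mul_assoc]
        _ = bE6 := by rw [hB, hB]
    obtain ⟨Z, hZ⟩ : ∃ Z, Z = E * bE6 * (1 - E)ᵀ := ⟨_, rfl⟩
    have hEB : E * bE6 * (W ^ 2)ᵀ = E * bE6 := by
      calc E * bE6 * (W ^ 2)ᵀ = E * W ^ 2 * bE6 * (W ^ 2)ᵀ := by rw [hEW]
        _ = E * (W ^ 2 * bE6 * (W ^ 2)ᵀ) := by simp only [Matrix.mul_assoc]
        _ = E * bE6 := by rw [hW2]
    have h1 : E * bE6 * ((1 - E) * W ^ 2)ᵀ = Z := by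
      rw [Matrix.transpose_mul, ← Matrix.mul_assoc, hEB, hZ]
    have h2 : E * bE6 * ((1 - E) * W ^ 4)ᵀ = Z := by
      rw [show (4 : ℕ) = 2 + 2 from rfl, pow_add, Matrix.transpose_mul, Matrix.transpose_mul, ← Matrix.mul_assoc,
        ← Matrix.mul_assoc, hEB, hEB, hZ]
    have h3 : E * bE6 * ((1 - E) * E)ᵀ = Z := by
      conv_lhs => arg 2; arg 1; arg 2; rw [hE]
      rw [Matrix.mul_add, Matrix.mul_sub, Matrix.mul_one, Matrix.transpose_add, Matrix.transpose_sub,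
        Matrix.mul_add, Matrix.mul_sub, h1, h2, ← hZ, sub_self, zero_add]
    rw [sub_mul, one_mul, hEE, sub_self, Matrix.transpose_zero, Matrix.mul_zero] at h3
    rw [← hZ, ← h3]
  have hsimple : ∀ i : Fin 6, ipE6 (Pi.single i 1) (Pi.single i 1) = 2 := by decide +kernel
  have horth' : ∀ x y : Fin 6 → ℤ, ipE6 (x ᵥ* E) (y ᵥ* (1 - E)) = 0 := by
    intro x y
    rw [ipE6_symm, ← ipE6_eq, Matrix.vecMul_vecMul, ← Matrix.mulVec_transpose _ y, Matrix.dotProduct_mulVec,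
      Matrix.vecMul_vecMul, horth, Matrix.vecMul_zero, zero_dotProduct]
  have hdec : ∀ x : Fin 6 → ℤ, x = x ᵥ* E + x ᵥ* (1 - E) := fun x => by
    rw [← Matrix.vecMul_add, add_sub_cancel, Matrix.vecMul_one]
  have hcase : ∀ i : Fin 6, (Pi.single i 1 : Fin 6 → ℤ) ᵥ* E = 0 ∨ (Pi.single i 1 : Fin 6 → ℤ) ᵥ* E = Pi.single i 1 := by
    intro i
    obtain ⟨a, ha⟩ : ∃ a, a = (Pi.single i 1 : Fin 6 → ℤ) ᵥ* E := ⟨_, rfl⟩
    obtain ⟨b, hb⟩ : ∃ b, b = (Pi.single i 1 : Fin 6 → ℤ) ᵥ* (1 - E) := ⟨_, rfl⟩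
    have hab := hdec (Pi.single i 1)
    rw [← ha, ← hb] at hab
    rw [← ha]
    have h := hsimple i
    have h0 : ipE6 a b = 0 := by rw [ha, hb]; exact horth' _ _
    rw [hab, ipE6_add, ipE6_add', ipE6_add', ipE6_symm b a, h0] at h
    obtain ⟨k1, hk1⟩ := ipE6_even a
    obtain ⟨k2, hk2⟩ := ipE6_even b
    have p1 := (ipE6_pos a).1
    have p2 := (ipE6_pos b).1
    rcases (show k1 = 0 ∨ k2 = 0 by omega) with h1 | h1
    · exact Or.inl ((ipE6_pos a).2 (by omega))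
    · refine Or.inr ?_
      rw [hab, (ipE6_pos b).2 (by omega), add_zero]
  have hadj : ∀ i j : Fin 6, ipE6 (Pi.single i 1) (Pi.single j 1) ≠ 0 →
      (Pi.single i 1 : Fin 6 → ℤ) ᵥ* E = Pi.single i 1 → (Pi.single j 1 : Fin 6 → ℤ) ᵥ* E = Pi.single j 1 := by
    intro i j hij hi
    refine (hcase j).resolve_left fun hj => hij ?_
    have hj' : (Pi.single j 1 : Fin 6 → ℤ) ᵥ* (1 - E) = Pi.single j 1 := by
      rw [Matrix.vecMul_sub, hj, Matrix.vecMul_one, sub_zero]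
    rw [← hi, ← hj']
    exact horth' _ _
  have hE1 : E ≠ 1 := by
    intro h
    rw [h, Matrix.mul_one] at hWE
    exact hne hWE
  have hnone : ∀ i : Fin 6, (Pi.single i 1 : Fin 6 → ℤ) ᵥ* E = 0 := by
    intro i
    refine (hcase i).resolve_right fun hi => hE1 ?_
    have hstep : ∀ i : Fin 6, (Pi.single i 1 : Fin 6 → ℤ) ᵥ* E = Pi.single i 1 →
        ∀ j : Fin 6, (Pi.single j 1 : Fin 6 → ℤ) ᵥ* E = Pi.single j 1 := by
      intro i hi j
      have hedge : ∀ a b : Fin 6, ((a, b) ∈ [((0 : Fin 6), (2 : Fin 6)), (2, 3), (1, 3), (3, 4), (4, 5)]) →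
          ipE6 (Pi.single a 1) (Pi.single b 1) ≠ 0 ∧ ipE6 (Pi.single b 1) (Pi.single a 1) ≠ 0 := by
        decide +kernel
      have e0 := hedge 0 2 (by decide); have e1 := hedge 2 3 (by decide); have e2 := hedge 1 3 (by decide)
      have e3 := hedge 3 4 (by decide); have e4 := hedge 4 5 (by decide)
      have h3 : (Pi.single (3 : Fin 6) 1 : Fin 6 → ℤ) ᵥ* E = Pi.single 3 1 := by
        fin_cases i
        · exact hadj 2 3 e1.1 (hadj 0 2 e0.1 hi)
        · exact hadj 1 3 e2.1 hi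
        · exact hadj 2 3 e1.1 hi
        · exact hi
        · exact hadj 4 3 e3.2 hi
        · exact hadj 4 3 e3.2 (hadj 5 4 e4.2 hi)
      fin_cases j
      · exact hadj 2 0 e0.2 (hadj 3 2 e1.2 h3)
      · exact hadj 3 1 e2.2 h3
      · exact hadj 3 2 e1.2 h3
      · exact h3
      · exact hadj 3 4 e3.1 h3
      · exact hadj 4 5 e4.1 (hadj 3 4 e3.1 h3)
    refine Matrix.ext fun a b => ?_
    have h := congrFun (hstep i hi a) b
    rw [Matrix.single_one_vecMul] at h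
    exact h.trans Matrix.one_eq_pi_single.symm
  have hE0 : E = 0 := Matrix.ext fun a b => by
    have h := congrFun (hnone a) b
    rwa [Matrix.single_one_vecMul] at h
  have h := Homocyclic.castV_aeval hc (X ^ 4 - X ^ 2 + 1)
  simp only [map_add, map_sub, map_pow, aeval_X, map_one, ← hE, hE0, Matrix.vecMul_zero] at h
  have h2 := congrFun h 0
  norm_num [castV, cE6] at h2

theorem no_norm_six (v : Fin 6 → ℤ) (h : ∀ β : Fin 6 → ℤ, (3 : ℤ) ∣ ipE6 β v) (h6 : ipE6 v v = 6) : False := by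
  have hd : ∀ j : Fin 6, (3 : ℤ) ∣ (v ᵥ* bE6) j := fun j => by
    have := h (Pi.single j 1)
    rwa [← ipE6_eq, dotProduct_single, mul_one] at this
  have a0 := hd 0; have a1 := hd 1; have a2 := hd 2; have a3 := hd 3; have a4 := hd 4; have a5 := hd 5
  simp [Homocyclic.vecMul_bE6] at a0 a1 a2 a3 a4 a5
  obtain ⟨x1, e1⟩ : (3 : ℤ) ∣ v 1 := by omega
  obtain ⟨x2, e2⟩ : (3 : ℤ) ∣ v 2 - 2 * v 0 := by omega
  obtain ⟨x3, e3⟩ : (3 : ℤ) ∣ v 3 := by omega
  obtain ⟨x4, e4⟩ : (3 : ℤ) ∣ v 4 - v 0 := by omega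
  obtain ⟨x5, e5⟩ : (3 : ℤ) ∣ v 5 - 2 * v 0 := by omega
  unfold ipE6 at h6
  rw [e1, e3, show v 2 = 2 * v 0 + 3 * x2 by linarith, show v 4 = v 0 + 3 * x4 by linarith,
    show v 5 = 2 * v 0 + 3 * x5 by linarith] at h6
  obtain ⟨K, hK⟩ : ∃ K : ℤ, 3 = 6 * (v 0 * v 0) + 9 * K := ⟨x1 * x1 + x2 * x2 + x3 * x3 + x4 * x4 + x5 * x5
    - x1 * x3 - x2 * x3 - x3 * x4 - x4 * x5 + v 0 * (x2 - x3 + x5), by linarith⟩
  have : ∀ t : ZMod 9, (3 : ZMod 9) ≠ 6 * (t * t) := by decide +kernel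
  refine this (v 0) ?_
  have h9 := congrArg (fun z : ℤ => (z : ZMod 9)) hK
  push_cast at h9
  rw [show (9 : ZMod 9) = 0 from rfl, zero_mul, add_zero] at h9
  exact h9

theorem rootMultiplicity_omega {ω : ℂ} (hω : ω ^ 2 + ω + 1 = 0) :
    rootMultiplicity ω ((cyclotomic 12 ℤ * cyclotomic 3 ℤ).map (Int.castRingHom ℂ)) ≤ 1 := by
  have hne : (cyclotomic 12 ℂ).eval ω ≠ 0 := by
    rw [← map_cyclotomic_int, eval_map, cyclotomic_twelve]
    simp only [eval₂_add, eval₂_sub, eval₂_X_pow, eval₂_one]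
    intro h
    have h2 : ω + 1 = 0 := by linear_combination (1/2 : ℂ) * h - (1/2) * (ω ^ 2 - ω - 1) * hω
    have h3 : ω = -1 := eq_neg_of_add_eq_zero_left h2
    rw [h3] at hω
    norm_num at hω
  rw [Polynomial.map_mul, map_cyclotomic_int, map_cyclotomic_int,
    rootMultiplicity_mul (mul_ne_zero (cyclotomic_ne_zero _ _) (cyclotomic_ne_zero _ _)),
    rootMultiplicity_eq_zero hne, zero_add]
  exact rootMultiplicity_le_one_of_separable (separable_cyclotomic 3 ℂ) ω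

/-- The kernel of the quadratic part is a plane. -/
theorem plane_E6 {W : Matrix (Fin 6) (Fin 6) ℤ} (hB : W * bE6 * Wᵀ = bE6)
    (hχ : W.charpoly = cyclotomic 12 ℤ * cyclotomic 3 ℤ) {α w r : Fin 6 → ℤ} (hαα : ipE6 α α = 2)
    (hwα : ipE6 w α = -1) (hw : w = α ᵥ* W) (hα2 : α ᵥ* W ^ 2 = -α - w) (hrα : ipE6 r α = 0)
    (hrw : ipE6 r w = 0) (hr3 : r ᵥ* (W ^ 2 + W + 1) = 0) : r = 0 := by
  obtain ⟨ω, hω⟩ : ∃ ω : ℂ, ω ^ 2 + ω + 1 = 0 := by
    obtain ⟨s, hs⟩ := IsAlgClosed.exists_pow_nat_eq (-3 : ℂ) (n := 2) (by norm_num)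
    exact ⟨(-1 + s) / 2, by field_simp; linear_combination hs⟩
  obtain ⟨f, hf⟩ : ∃ f, f = Matrix.toLin' (Wᵀ.map (Int.castRingHom ℂ)) := ⟨_, rfl⟩
  have h1 : Module.finrank ℂ ↥(Module.End.eigenspace f ω) ≤ 1 := by
    refine le_trans (LinearMap.finrank_eigenspace_le f _) ?_
    rw [hf, Matrix.charpoly_toLin', Matrix.charpoly_map, Matrix.charpoly_transpose, hχ]
    exact rootMultiplicity_omega hω
  have hcast : ∀ (x : Fin 6 → ℤ) (j : Fin 6), (((x ᵥ* W) j : ℤ) : ℂ) = f (fun i => (x i : ℂ)) j := by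
    intro x j
    rw [hf, Matrix.toLin'_apply]
    simp [Matrix.vecMul, Matrix.mulVec, dotProduct, mul_comm]
  obtain ⟨ev, hev⟩ : ∃ ev : (Fin 6 → ℤ) → Fin 6 → ℂ, ∀ x j, ev x j = ((x ᵥ* W) j : ℂ) - ω ^ 2 * (x j : ℂ) :=
    ⟨_, fun _ _ => rfl⟩
  have hmem : ∀ x : Fin 6 → ℤ, x ᵥ* (W ^ 2 + W + 1) = 0 → ev x ∈ Module.End.eigenspace f ω := by
    intro x hx
    rw [Module.End.mem_eigenspace_iff]
    have hx1 : f (fun i => (x i : ℂ)) = fun j => ((x ᵥ* W) j : ℂ) := funext fun j => (hcast x j).symm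
    have hx2 : f (fun i => ((x ᵥ* W) i : ℂ)) = fun j => ((x ᵥ* W ^ 2) j : ℂ) := funext fun j => by
      rw [← hcast, Matrix.vecMul_vecMul, sq]
    have e : ev x = (fun j => ((x ᵥ* W) j : ℂ)) - ω ^ 2 • fun j => (x j : ℂ) := funext fun j => by
      simp [hev]
    rw [e, map_sub, map_smul, hx1, hx2]
    funext j
    have h := congrArg (fun z : ℤ => (z : ℂ)) (congrFun hx j)
    simp only [Matrix.vecMul_add, Matrix.vecMul_one, Pi.add_apply, Pi.zero_apply, Int.cast_add, Int.cast_zero] at h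
    simp only [Pi.sub_apply, Pi.smul_apply, smul_eq_mul]
    linear_combination h + (-((x ᵥ* W) j : ℂ) + (ω - 1) * (x j : ℂ)) * hω
  have hα3 : α ᵥ* (W ^ 2 + W + 1) = 0 := by
    simp only [Matrix.vecMul_add, Matrix.vecMul_one, hα2, ← hw]
    funext j
    simp
  obtain ⟨L, hL⟩ : ∃ L : (Fin 6 → ℂ) → ℂ, ∀ z, L z = ∑ i, z i * ((α ᵥ* bE6) i : ℂ) := ⟨_, fun _ => rfl⟩
  have hLev : ∀ x, L (ev x) = (ipE6 (x ᵥ* W) α : ℂ) - ω ^ 2 * (ipE6 x α : ℂ) := by
    intro x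
    rw [hL, ← ipE6_eq α, ← ipE6_eq α]
    simp only [hev, dotProduct, Int.cast_sum, Int.cast_mul, Finset.mul_sum, ← Finset.sum_sub_distrib]
    exact Finset.sum_congr rfl fun i _ => by ring
  have hrW : ipE6 (r ᵥ* W) α = 0 := by
    have e : α = -(α ᵥ* W) - w ᵥ* W := by
      funext j
      have := congrFun hα2 j
      simp only [Pi.sub_apply, Pi.neg_apply] at this ⊢
      rw [hw, Matrix.vecMul_vecMul, ← sq, this, ← hw]
      ring
    conv_lhs => arg 2; rw [e]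
    rw [ipE6_sub', show -(α ᵥ* W) = (-1 : ℤ) • (α ᵥ* W) from (neg_one_smul _ _).symm, ipE6_smul',
      invariantE6 hB, invariantE6 hB, hrα, hrw]
    ring
  obtain ⟨b, hb⟩ := finrank_le_one_iff.1 h1
  obtain ⟨ta, hta⟩ := hb ⟨_, hmem α hα3⟩
  obtain ⟨tr, htr⟩ := hb ⟨_, hmem r hr3⟩
  have hA : L (ev α) = -1 - 2 * ω ^ 2 := by
    rw [hLev, ← hw, hwα, hαα]; push_cast; ring
  have hR : L (ev r) = 0 := by rw [hLev, hrW, hrα]; simp
  have hscale : ∀ (t : ℂ) (x : Fin 6 → ℤ), t • (b : Fin 6 → ℂ) = ev x → L (ev x) = t * L (b : Fin 6 → ℂ) := by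
    intro t x ht
    rw [← ht, hL, hL, Finset.mul_sum]
    exact Finset.sum_congr rfl fun i _ => by rw [Pi.smul_apply, smul_eq_mul]; ring
  have hb0 : L (b : Fin 6 → ℂ) ≠ 0 := by
    intro h
    have h2 := hscale ta α (congrArg Subtype.val hta)
    rw [h, mul_zero, hA] at h2
    have h4 : (3 : ℂ) = 0 := by linear_combination (-1 - 2 * ω) * h2 + (-4 * ω + 2) * hω * 0 + (-4 * ω + 2) * hω
    norm_num at h4
  have htr0 : tr = 0 := by
    have h2 := hscale tr r (congrArg Subtype.val htr)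
    rw [hR] at h2
    exact (mul_eq_zero.1 h2.symm).resolve_right hb0
  have hev0 : ∀ j, ((r ᵥ* W) j : ℂ) = ω ^ 2 * (r j : ℂ) := fun j => by
    have h := congrFun (congrArg Subtype.val htr) j
    simp only [SetLike.val_smul, htr0, zero_smul, Pi.zero_apply, hev] at h
    exact sub_eq_zero.1 h.symm
  funext j
  by_contra hj
  have hj' : (r j : ℂ) ≠ 0 := by simpa using hj
  have hreal : ω ^ 2 = ((((r ᵥ* W) j : ℤ) : ℚ) / ((r j : ℤ) : ℚ) : ℚ) := by
    push_cast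
    rw [eq_div_iff hj', ← hev0]
  obtain ⟨t, ht⟩ : ∃ t : ℚ, ω ^ 2 = (t : ℂ) := ⟨_, hreal⟩
  have h5 : ((t ^ 2 + t + 1 : ℚ) : ℂ) = 0 := by push_cast; rw [← ht]; linear_combination (ω ^ 2 - ω + 1) * hω
  have h6 : t ^ 2 + t + 1 = 0 := by exact_mod_cast h5
  have h7 : (2 * t + 1) ^ 2 = -3 := by linear_combination 4 * h6
  exact (sq_nonneg (2 * t + 1)).not_gt (h7 ▸ by norm_num)

/-- The values of the Gram sequence of the regular element. -/
theorem gram_values (W : Matrix (Fin 6) (Fin 6) ℤ) (hroots : ∀ s : Fin 72, ∃ s' : Fin 72, vE6 s ᵥ* W = vE6 s')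
    (hB : W * bE6 * Wᵀ = bE6) (hχ : W.charpoly = cyclotomic 12 ℤ * cyclotomic 3 ℤ) (s : Fin 72) :
    ∃ a c : ℤ, -2 ≤ a ∧ a ≤ 2 ∧ (c = 0 ∨ c = 1) ∧
      [2, a, 1 - c, c, -1, -a - c, 2 * c - 2, -a - c, -1, c, 1 - c, a] =
        (List.range 12).map fun k => ipE6 (vE6 s ᵥ* W ^ k) (vE6 s) := by
  obtain ⟨α, hα⟩ : ∃ α, α = vE6 s := ⟨_, rfl⟩
  rw [← hα]
  obtain ⟨g, hg⟩ : ∃ g : ℕ → ℤ, ∀ k, g k = ipE6 (α ᵥ* W ^ k) α := ⟨_, fun _ => rfl⟩
  simp only [← hg]
  have hroot : ∀ k, ∃ s' : Fin 72, α ᵥ* W ^ k = vE6 s' := by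
    intro k
    induction k with
    | zero => exact ⟨s, by rw [pow_zero, Matrix.vecMul_one, hα]⟩
    | succ k ih =>
      obtain ⟨s', hs'⟩ := ih
      rw [pow_succ, ← Matrix.vecMul_vecMul, hs']
      exact hroots s'
  have hbound : ∀ k, -2 ≤ g k ∧ g k ≤ 2 := fun k => by
    obtain ⟨s', hs'⟩ := hroot k
    rw [hg, hs', hα]
    exact (ipE6_roots s' s).2
  have hg0 : g 0 = 2 := by rw [hg, pow_zero, Matrix.vecMul_one, hα]; exact (ipE6_roots s s).1
  -- the recurrences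
  have hf := W.aeval_self_charpoly
  rw [hχ] at hf
  rw [cyclotomic_twelve, cyclotomic_three] at hf
  simp only [map_mul, map_add, map_sub, map_pow, aeval_X, map_one] at hf
  have h8 : W ^ 8 + W ^ 4 + 1 = 0 := by
    have : W ^ 8 + W ^ 4 + 1 = (W ^ 4 - W ^ 2 + 1) * (W ^ 2 + W + 1) * (W ^ 2 - W + 1) := by noncomm_ring
    rw [this, hf, zero_mul]
  have h12 : W ^ 12 = 1 := by
    have : W ^ 12 - 1 = (W ^ 4 - 1) * (W ^ 8 + W ^ 4 + 1) := by noncomm_ring
    rw [h8, mul_zero, sub_eq_zero] at this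
    exact this
  have htri : ∀ k, g (k + 8) + g (k + 4) + g k = 0 := fun k => by
    rw [hg, hg, hg, ← ipE6_add, ← ipE6_add, ← Matrix.vecMul_add, ← Matrix.vecMul_add,
      show W ^ (k + 8) + W ^ (k + 4) + W ^ k = W ^ k * (W ^ 8 + W ^ 4 + 1) by rw [pow_add, pow_add]; noncomm_ring,
      h8, mul_zero, Matrix.vecMul_zero, ipE6_zero]
  have hrec : g 6 + g 5 + g 1 + g 0 - g 3 = 0 := by
    simp only [hg, ← ipE6_add, ← ipE6_sub, ← Matrix.vecMul_add, ← Matrix.vecMul_sub]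
    rw [show W ^ 6 + W ^ 5 + W ^ 1 + W ^ 0 - W ^ 3 = (W ^ 4 - W ^ 2 + 1) * (W ^ 2 + W + 1) by noncomm_ring, hf,
      Matrix.vecMul_zero, ipE6_zero]
  have hinv : ∀ n k, ipE6 (α ᵥ* W ^ (k + n)) (α ᵥ* W ^ n) = g k := by
    intro n
    induction n with
    | zero => intro k; rw [hg, add_zero, pow_zero, Matrix.vecMul_one]
    | succ n ih =>
      intro k
      rw [← add_assoc, pow_succ, pow_succ, ← Matrix.vecMul_vecMul, ← Matrix.vecMul_vecMul, invariantE6 hB, ih]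
  have hsym : ∀ k ≤ 12, g (12 - k) = g k := by
    intro k hk
    have h := hinv k (12 - k)
    rw [Nat.sub_add_cancel hk, h12, Matrix.vecMul_one, ipE6_symm, ← hg] at h
    exact h.symm
  have t0 := htri 0; have t1 := htri 1; have t2 := htri 2; have t3 := htri 3
  simp only [Nat.reduceAdd] at t0 t1 t2 t3
  have s1 := hsym 1 (by norm_num); have s2 := hsym 2 (by norm_num); have s3 := hsym 3 (by norm_num)
  have s4 := hsym 4 (by norm_num); have s5 := hsym 5 (by norm_num)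
  simp only [Nat.reduceSub] at s1 s2 s3 s4 s5
  have b6 := hbound 6
  have b3 := hbound 3
  have hlist : [2, g 1, 1 - g 3, g 3, -1, -g 1 - g 3, 2 * g 3 - 2, -g 1 - g 3, -1, g 3, 1 - g 3, g 1] =
      (List.range 12).map g := by
    have hr : List.range 12 = [0, 1, 2, 3, 4, 5, 6, 7, 8, 9, 10, 11] := rfl
    simp only [hr, List.map_cons, List.map_nil, List.cons.injEq, and_true, true_and]
    omega
  refine ⟨g 1, g 3, (hbound 1).1, (hbound 1).2, ?_, hlist⟩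
  -- the fixed case
  have hc2 : g 3 ≠ 2 := by
    intro hc
    obtain ⟨z, hz⟩ : ∃ z, z = α ᵥ* W ^ 3 := ⟨_, rfl⟩
    have hz3 : z = α := by
      have hzz : ipE6 z z = 2 := by
        have h := hinv 3 0
        rw [zero_add, ← hz, hg0] at h
        exact h
      have hza : ipE6 z α = 2 := by rw [hz, ← hg]; exact hc
      have h0 : ipE6 (z - α) (z - α) = 0 := by
        rw [ipE6_sub, ipE6_sub', ipE6_sub', hzz, hza, ipE6_symm α z, hza]
        have : ipE6 α α = 2 := by rw [hα]; exact (ipE6_roots s s).1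
        omega
      exact sub_eq_zero.1 ((ipE6_pos _).2 h0)
    rw [hz] at hz3
    have hper : ∀ k, g (k + 3) = g k := fun k => by
      rw [hg, hg, add_comm, pow_add, ← Matrix.vecMul_vecMul, hz3]
    have p1 := hper 1; have p2 := hper 2
    simp only [Nat.reduceAdd] at p1 p2
    obtain ⟨w, hw⟩ : ∃ w, w = α ᵥ* W := ⟨_, rfl⟩
    have hα2 : α ᵥ* W ^ 2 = -α - w := by
      have h := congrArg (α ᵥ* ·) hf
      rw [show (W ^ 4 - W ^ 2 + 1) * (W ^ 2 + W + 1) = W ^ 6 + W ^ 5 - W ^ 3 + W + 1 by noncomm_ring] at h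
      simp only [Matrix.vecMul_add, Matrix.vecMul_sub, Matrix.vecMul_one, Matrix.vecMul_zero] at h
      rw [show W ^ 6 = W ^ 3 * W ^ 3 from pow_add W 3 3, show W ^ 5 = W ^ 3 * W ^ 2 from pow_add W 3 2,
        ← Matrix.vecMul_vecMul, ← Matrix.vecMul_vecMul, hz3, hz3, ← hw] at h
      funext j
      have := congrFun h j
      simp only [Pi.add_apply, Pi.sub_apply, Pi.zero_apply] at this
      simp only [Pi.sub_apply, Pi.neg_apply]
      linarith
    have hαα : ipE6 α α = 2 := by rw [hα]; exact (ipE6_roots s s).1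
    have hwα : ipE6 w α = -1 := by
      have : g 1 = -1 := by omega
      rw [hw]; rw [hg, pow_one] at this; exact this
    have hww : ipE6 w w = 2 := by rw [hw, invariantE6 hB]; exact hαα
    obtain ⟨v, hv⟩ : ∃ v, v = α - w := ⟨_, rfl⟩
    have hw2 : w ᵥ* W = -α - w := by rw [hw, Matrix.vecMul_vecMul, ← sq, ← hw, hα2]
    have hWpos : ∀ β : Fin 6 → ℤ, (3 : ℤ) ∣ ipE6 β v := by
      intro β
      obtain ⟨M, hM⟩ : ∃ M, M = W ^ 4 - W ^ 2 + 1 := ⟨_, rfl⟩
      obtain ⟨y, hy⟩ : ∃ y, y = β ᵥ* M := ⟨_, rfl⟩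
      have hinv' : ∀ k x u, ipE6 (x ᵥ* W ^ k) (u ᵥ* W ^ k) = ipE6 x u := by
        intro k
        induction k with
        | zero => intro x u; rw [pow_zero, Matrix.vecMul_one, Matrix.vecMul_one]
        | succ k ih =>
          intro x u
          rw [pow_succ, ← Matrix.vecMul_vecMul, ← Matrix.vecMul_vecMul, invariantE6 hB, ih]
      -- back shifts
      have hb3 : α ᵥ* W ^ 3 = α := hz3
      have hα4 : α ᵥ* W ^ 4 = w := by rw [pow_succ, ← Matrix.vecMul_vecMul, hb3, hw]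
      have hw3 : w ᵥ* W ^ 3 = w := by rw [hw, Matrix.vecMul_vecMul, ← pow_succ', pow_succ, ← Matrix.vecMul_vecMul, hb3]
      have hw4 : w ᵥ* W ^ 4 = -α - w := by rw [pow_succ, ← Matrix.vecMul_vecMul, hw3, hw2]
      have hu4 : (-α - w) ᵥ* W ^ 4 = α := by
        rw [Matrix.sub_vecMul, Matrix.neg_vecMul, hα4, hw4]; funext j; simp; ring
      have hu2 : (-α - w) ᵥ* W ^ 2 = w := by
        rw [Matrix.sub_vecMul, Matrix.neg_vecMul, hα2, sq, ← Matrix.vecMul_vecMul, hw2, Matrix.sub_vecMul,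
          Matrix.neg_vecMul, ← hw, hw2]
        funext j; simp; ring
      have hα_2 : w ᵥ* W ^ 2 = α := by
        rw [sq, ← Matrix.vecMul_vecMul, hw2, Matrix.sub_vecMul, Matrix.neg_vecMul, ← hw, hw2]; funext j; simp; ring
      have hyα : ipE6 y α = -2 * ipE6 β w := by
        have e1 : ipE6 (β ᵥ* W ^ 4) α = ipE6 β (-α - w) := by rw [← hinv' 4 β (-α - w), hu4]
        have e2 : ipE6 (β ᵥ* W ^ 2) α = ipE6 β w := by rw [← hinv' 2 β w, hα_2]
        rw [hy, hM, Matrix.vecMul_add, Matrix.vecMul_sub, Matrix.vecMul_one, ipE6_add, ipE6_sub, e1, e2]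
        simp [ipE6]
        ring
      have hyw : ipE6 y w = 2 * ipE6 β α + 2 * ipE6 β w := by
        have e1 : ipE6 (β ᵥ* W ^ 4) w = ipE6 β α := by rw [← hinv' 4 β α, hα4]
        have e2 : ipE6 (β ᵥ* W ^ 2) w = ipE6 β (-α - w) := by rw [← hinv' 2 β (-α - w), hu2]
        rw [hy, hM, Matrix.vecMul_add, Matrix.vecMul_sub, Matrix.vecMul_one, ipE6_add, ipE6_sub, e1, e2]
        simp [ipE6]
        ring
      have hy3 : y ᵥ* (W ^ 2 + W + 1) = 0 := by
        rw [hy, Matrix.vecMul_vecMul, hM, hf, Matrix.vecMul_zero]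
      obtain ⟨x1, hx1⟩ : ∃ x1, x1 = 2 * ipE6 y α + ipE6 y w := ⟨_, rfl⟩
      obtain ⟨x2, hx2⟩ : ∃ x2, x2 = ipE6 y α + 2 * ipE6 y w := ⟨_, rfl⟩
      obtain ⟨r, hr⟩ : ∃ r, r = (3 : ℤ) • y - (x1 • α + x2 • w) := ⟨_, rfl⟩
      have hαw : ipE6 α w = -1 := by rw [ipE6_symm]; exact hwα
      have hrα : ipE6 r α = 0 := by
        rw [hr, ipE6_sub, ipE6_add, ipE6_smul, ipE6_smul, ipE6_smul, hαα, hwα, hx1, hx2]; ring
      have hrw : ipE6 r w = 0 := by
        rw [hr, ipE6_sub, ipE6_add, ipE6_smul, ipE6_smul, ipE6_smul, hww, hαw, hx1, hx2]; ring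
      have hr3 : r ᵥ* (W ^ 2 + W + 1) = 0 := by
        rw [hr, Matrix.sub_vecMul, Matrix.add_vecMul, Matrix.smul_vecMul, Matrix.smul_vecMul, Matrix.smul_vecMul,
          hy3, smul_zero]
        simp only [Matrix.vecMul_add, Matrix.vecMul_one, hα2, ← hw, hw2, hα_2]
        funext j
        simp
        ring
      have hr0 : r = 0 := plane_E6 hB hχ hαα hwα hw hα2 hrα hrw hr3
      -- integrality
      obtain ⟨k, hk⟩ := ipE6_even y
      have h9 : 9 * k = x1 ^ 2 + x2 ^ 2 - x1 * x2 := by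
        have hnorm : ipE6 ((3 : ℤ) • y) ((3 : ℤ) • y) = ipE6 (x1 • α + x2 • w) (x1 • α + x2 • w) := by
          rw [sub_eq_zero.1 (hr.symm.trans hr0)]
        simp only [ipE6_add, ipE6_add', ipE6_smul, ipE6_smul', hαα, hww, hwα, hαw, hk] at hnorm
        linarith
      rw [hv, ipE6_sub']
      have hX : x1 = 2 * ipE6 β α - 2 * ipE6 β w := by rw [hx1, hyα, hyw]; ring
      have hY : x2 = 4 * ipE6 β α + 2 * ipE6 β w := by rw [hx2, hyα, hyw]; ring
      have hcube : (2 * (ipE6 β α - ipE6 β w)) ^ 2 = 3 * (k - 4 * (ipE6 β α) * (ipE6 β w)) := by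
        have h9' := h9
        rw [hX, hY] at h9'
        linarith
      have h3 : (3 : ℤ) ∣ (2 * (ipE6 β α - ipE6 β w)) ^ 2 := by
        refine ⟨k - 4 * (ipE6 β α) * (ipE6 β w), ?_⟩
        exact hcube
      exact (Int.prime_three.dvd_mul.1 (Int.prime_three.dvd_of_dvd_pow h3)).resolve_left (by norm_num)
    have hv6 : ipE6 v v = 6 := by
      rw [hv, ipE6_sub, ipE6_sub', ipE6_sub', hαα, hww, hwα, ipE6_symm α w, hwα]; ring
    exact no_norm_six v hWpos hv6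
  omega

theorem not_dvd_of_bounds {r : ℕ} (hr : r.Prime) (hr13 : 13 ≤ r) : ∀ a c : ℤ, -2 ≤ a → a ≤ 2 → (c = 0 ∨ c = 1) →
    ¬ (r : ℤ) ∣ 3 * (3 * (2 - c) ^ 2 - (2 * a + c) ^ 2) := by
  intro a c ha ha' hc h
  have h264 : (3 * (3 * (2 - c) ^ 2 - (2 * a + c) ^ 2)) ∣ (792 : ℤ) := by
    rcases hc with rfl | rfl <;> interval_cases a <;> norm_num
  have h2 := Int.natCast_dvd_natCast.1 (h.trans h264)
  have h3 : r ∣ 2 ^ 3 * 3 ^ 2 * 11 := h2
  rcases hr.dvd_mul.1 h3 with h4 | h4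
  · rcases hr.dvd_mul.1 h4 with h5 | h5
    · exact absurd (Nat.le_of_dvd (by norm_num) (hr.dvd_of_dvd_pow h5)) (by omega)
    · exact absurd (Nat.le_of_dvd (by norm_num) (hr.dvd_of_dvd_pow h5)) (by omega)
  · exact absurd (Nat.le_of_dvd (by norm_num) h4) (by omega)

/-- The Weyl group elements attached to a primitive twelfth root of unity. -/
theorem charpoly_E6 {W : Matrix (Fin 6) (Fin 6) ℤ} (hB : W * bE6 * Wᵀ = bE6)
    (hc : castV (ZMod 3) (cE6 ᵥ* W) = castV (ZMod 3) cE6) {m : ℕ} (hm : 0 < m) (hWm : W ^ m = 1)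
    (hdvd : cyclotomic 12 ℤ ∣ W.charpoly) (hne : W ^ 2 ≠ 1) :
    W.charpoly = cyclotomic 12 ℤ * cyclotomic 3 ℤ := by
  obtain ⟨u, hu⟩ := hdvd
  have hum : u.Monic := (cyclotomic.monic 12 ℤ).of_mul_monic_left (hu ▸ W.charpoly_monic)
  have hud : u.natDegree = 2 := by
    have h := congrArg natDegree hu
    rw [(cyclotomic.monic 12 ℤ).natDegree_mul hum, natDegree_cyclotomic, Matrix.charpoly_natDegree_eq_dim,
      Fintype.card_fin, show Nat.totient 12 = 4 from by decide] at h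
    omega
  obtain ⟨b, c, hbc⟩ : ∃ b c : ℤ, u = X ^ 2 + C b * X + C c := by
    refine ⟨u.coeff 1, u.coeff 0, ?_⟩
    conv_lhs => rw [hum.as_sum, hud]
    simp [Finset.sum_range_succ]
    ring
  obtain ⟨hc1, hb1, hb2⟩ := quad_bound hm hWm (b := b) (c := c) ⟨cyclotomic 12 ℤ, by rw [hu, hbc, mul_comm]⟩
  have heval : ((u.eval 1 : ℤ) : ZMod 3) = 0 := by
    have h := Homocyclic.castV_aeval hc W.charpoly
    rw [W.aeval_self_charpoly, Matrix.vecMul_zero, hu, eval_mul, cyclotomic_twelve] at h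
    have h2 := congrFun h 0
    norm_num [castV, cE6] at h2
    simpa using h2.symm
  rw [hbc] at heval
  simp only [eval_add, eval_mul, eval_pow, eval_X, eval_C, one_pow, mul_one] at heval
  rw [ZMod.intCast_zmod_eq_zero_iff_dvd] at heval
  have hsplit : ¬ W.charpoly ∣ (cyclotomic 12 ℤ * (X ^ 2 - 1)) ^ 2 := by
    intro h
    have h0 := Homocyclic.aeval_eq_zero_of_dvd_pow hm hWm h
    rw [cyclotomic_twelve, mul_comm] at h0
    simp only [map_mul, map_add, map_sub, map_pow, aeval_X, map_one] at h0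
    exact not_split hB hc h0 hne
  rcases hc1 with rfl | rfl
  · obtain rfl | rfl : b = 1 ∨ b = -2 := by omega
    · rw [hu, hbc, cyclotomic_three]
      simp
    · refine absurd ?_ hsplit
      rw [hu, hbc, mul_pow]
      exact mul_dvd_mul (dvd_pow_self _ two_ne_zero) ⟨(X + 1) ^ 2, by simp; ring⟩
  · obtain rfl : b = 0 := by omega
    refine absurd ?_ hsplit
    rw [hu, hbc, mul_pow]
    exact mul_dvd_mul (dvd_pow_self _ two_ne_zero) ⟨X ^ 2 - 1, by simp; ring⟩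

theorem primitive_twelve {r q : ℕ} [Fact r.Prime] (hr2 : r ≠ 2) (hr3 : r ≠ 3)
    (h : (r : ℤ) ∣ (q : ℤ) ^ 4 - (q : ℤ) ^ 2 + 1) : IsPrimitiveRoot ((q : ℕ) : ZMod r) 12 := by
  have hr : r.Prime := Fact.out
  have : NeZero ((12 : ℕ) : ZMod r) := ⟨fun h0 => by
    rw [ZMod.natCast_eq_zero_iff] at h0
    rcases hr.dvd_mul.1 (show r ∣ 2 ^ 2 * 3 from h0) with h1 | h1
    · exact hr2 ((Nat.prime_dvd_prime_iff_eq hr Nat.prime_two).1 (hr.dvd_of_dvd_pow h1))
    · exact hr3 ((Nat.prime_dvd_prime_iff_eq hr Nat.prime_three).1 h1)⟩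
  rw [← Polynomial.isRoot_cyclotomic_iff, ← map_cyclotomic_int, IsRoot.def, eval_map, cyclotomic_twelve]
  simp only [eval₂_add, eval₂_sub, eval₂_X_pow, eval₂_one]
  have h2 := (ZMod.intCast_zmod_eq_zero_iff_dvd _ r).2 h
  push_cast at h2
  exact h2

theorem card_left_eigen {l r : ℕ} [Fact r.Prime] (W : Matrix (Fin l) (Fin l) ℤ) {m : ℕ} (hm : 0 < m)
    (hW : W ^ m = 1) (hrm : ¬ r ∣ m) {d : ℕ} (hd : ¬ r ∣ d) {z : ZMod r} (hz : IsPrimitiveRoot z d) :
    ∃ b : ℕ, cyclotomic d ℤ ^ b ∣ W.charpoly ∧ b * d.totient ≤ l ∧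
      Nat.card {v : Fin l → ZMod r // v ᵥ* W.map (Int.cast : ℤ → ZMod r) = z • v} = r ^ b := by
  obtain ⟨b, h1, h2, h3⟩ := Homocyclic.exists_card_eigen Wᵀ hm (by rw [← Matrix.transpose_pow, hW, Matrix.transpose_one])
    hrm hd hz
  refine ⟨b, by rwa [Matrix.charpoly_transpose] at h1, h2, ?_⟩
  rw [← h3]
  refine Nat.card_congr (Equiv.subtypeEquivRight fun v => ?_)
  rw [← Matrix.mulVec_transpose, Matrix.transpose_map]

theorem two_val : ∀ x : ZMod 2, (x ^ 4 - x ^ 2 + 1) * (x ^ 2 + x + 1) ≠ 0 := by decide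

/-- A matrix of finite order has order prime to any prime exceeding its size by two. -/
theorem exists_order_not_dvd {l m r : ℕ} [Fact r.Prime] {W : Matrix (Fin l) (Fin l) ℤ} (hm : 0 < m) (hW : W ^ m = 1)
    (hlr : l + 1 < r) : ∃ o, 0 < o ∧ W ^ o = 1 ∧ ¬ r ∣ o := by
  have hr : r.Prime := Fact.out
  induction m using Nat.strong_induction_on with
  | _ m ih =>
    by_cases hrm : r ∣ m
    swap
    · exact ⟨m, hm, hW, hrm⟩
    obtain ⟨k, hk⟩ := hrm
    have hk0 : 0 < k := Nat.pos_of_ne_zero fun h => by rw [h, mul_zero] at hk; omega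
    refine ih k (by rw [hk]; exact lt_mul_of_one_lt_left hk0 hr.one_lt) hk0 ?_
    have hA : (W ^ k) ^ r = 1 := by rw [← pow_mul, mul_comm, ← hk, hW]
    have hroots : ∀ x : ℂ, x ∈ ((W ^ k).charpoly.map (Int.castRingHom ℂ)).roots → x = 1 := by
      intro x hx
      have hx0 : aeval x (W ^ k).charpoly = 0 := by
        have := isRoot_of_mem_roots hx
        rwa [IsRoot.def, eval_map] at this
      by_contra hne
      have hprim : IsPrimitiveRoot x r := IsPrimitiveRoot.iff_orderOf.2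
        (orderOf_eq_prime (Homocyclic.pow_eq_one_of_charpoly_root hA hx0) hne)
      have hd : cyclotomic r ℤ ∣ (W ^ k).charpoly := by
        rw [cyclotomic_eq_minpoly hprim hr.pos]
        exact minpoly.isIntegrallyClosed_dvd (hprim.isIntegral hr.pos) hx0
      have h := natDegree_le_of_dvd hd (W ^ k).charpoly_monic.ne_zero
      rw [natDegree_cyclotomic, Nat.totient_prime hr, Matrix.charpoly_natDegree_eq_dim, Fintype.card_fin] at h
      omega
    have hsplit : (W ^ k).charpoly.map (Int.castRingHom ℂ) = (X - 1) ^ l := by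
      rw [(IsAlgClosed.splits _).eq_prod_roots_of_monic ((W ^ k).charpoly_monic.map _),
        Multiset.eq_replicate.2 ⟨rfl, hroots⟩, Multiset.map_replicate, Multiset.prod_replicate,
        IsAlgClosed.card_roots_eq_natDegree, (W ^ k).charpoly_monic.natDegree_map,
        Matrix.charpoly_natDegree_eq_dim, Fintype.card_fin, map_one]
    have h1 : (W ^ k).charpoly = (X - 1) ^ l :=
      map_injective (Int.castRingHom ℂ) Int.cast_injective (by rw [hsplit]; simp)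
    have h2 := Homocyclic.aeval_eq_zero_of_dvd_pow hr.pos hA (p := X - 1) (k := l) (by rw [h1])
    rwa [map_sub, aeval_X, map_one, sub_eq_zero] at h2

set_option maxRecDepth 4000 in
theorem torusOK_E6 {q r : ℕ} [Fact r.Prime] (hr13 : 13 ≤ r) (hr : (r : ℤ) ∣ (q : ℤ) ^ 4 - (q : ℤ) ^ 2 + 1)
    {P : ℕ} (hP : (P : ℤ) = ((q : ℤ) ^ 4 - (q : ℤ) ^ 2 + 1) * ((q : ℤ) ^ 2 + q + 1)) :
    TorusOK chevE6 auxE6 (cyclotomic 12 ℤ * cyclotomic 3 ℤ) q P r := by
  intro W hW hm a ha heig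
  obtain ⟨m, hm, hWm⟩ := hm
  have hrp : r.Prime := Fact.out
  have hc := hW.cls 3 cE6 Homocyclic.classE6
  have hB := hW.form _ Homocyclic.bilE6
  have hroots := hW.roots
  change Matrix (Fin 6) (Fin 6) ℤ at W
  change Fin 6 → ZMod r at a
  change W * bE6 * Wᵀ = bE6 at hB
  change ∀ s : Fin 72, ∃ s' : Fin 72, vE6 s ᵥ* W = vE6 s' at hroots
  have hz := primitive_twelve (by omega) (by omega) hr
  -- the prime does not divide the order
  obtain ⟨z, hzdef⟩ : ∃ z, z = ((q : ℕ) : ZMod r) := ⟨_, rfl⟩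
  rw [← hzdef] at hz heig
  have hr12 : ¬ r ∣ 12 := fun h => absurd (Nat.le_of_dvd (by norm_num) h) (by omega)
  obtain ⟨o, ho0, hWo, hro⟩ := exists_order_not_dvd hm hWm (show 6 + 1 < r by omega)
  have hne : W ^ 2 ≠ 1 := by
    intro h
    have h1 : z ^ 2 • a = a := by
      have h2 := congrArg (fun A : Matrix (Fin 6) (Fin 6) ℤ => a ᵥ* A.map (Int.castRingHom (ZMod r))) h
      simp only [sq, Matrix.map_mul, Matrix.map_one _ (map_zero _) (map_one _), Matrix.vecMul_one,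
        ← Matrix.vecMul_vecMul] at h2
      rw [show a ᵥ* W.map (Int.castRingHom (ZMod r)) = z • a from heig, Matrix.smul_vecMul,
        show a ᵥ* W.map (Int.castRingHom (ZMod r)) = z • a from heig, smul_smul, ← sq] at h2
      exact h2
    obtain ⟨i, hi⟩ := Function.ne_iff.1 ha
    have h2 := congrFun h1 i
    rw [Pi.smul_apply, smul_eq_mul] at h2
    have h3 := hz.dvd_of_pow_eq_one 2 ((mul_eq_right₀ hi).1 h2)
    norm_num at h3
  obtain ⟨b, hb, hb6, hbc⟩ := card_left_eigen W ho0 hWo hro hr12 hz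
  rw [show Nat.totient 12 = 4 from by decide] at hb6
  have hb1 : b = 1 := by
    rcases Nat.eq_zero_or_pos b with h | h
    · rw [h, pow_zero] at hbc
      have hs := (Nat.card_eq_one_iff_unique.1 hbc).1
      exact absurd (congrArg Subtype.val (hs.elim ⟨a, heig⟩ ⟨0, by simp⟩)) ha
    · omega
  rw [hb1, pow_one] at hb hbc
  have hχ := charpoly_E6 hB hc hm hWm hb hne
  refine ⟨hχ, fun s => ?_, fun p hp hp2 => ?_⟩
  · -- regularity
    change Fin 72 at s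
    intro hzero
    change ∑ i : Fin 6, a i * ((chevE6.cartan i (s : ℕ) : ℤ) : ZMod r) = 0 at hzero
    simp only [cartanE6 _ s] at hzero
    obtain ⟨A, hA⟩ : ∃ A : Fin 6 → ℤ, A = fun i => ((a i).val : ℤ) := ⟨_, rfl⟩
    have hAa : ∀ i, ((A i : ℤ) : ZMod r) = a i := fun i => by rw [hA]; simp
    have hpair : ((ipE6 A (vE6 s) : ℤ) : ZMod r) = 0 := by
      rw [← ipE6_eq, ← hzero]
      simp only [dotProduct, Int.cast_sum, Int.cast_mul, hAa]
      exact Finset.sum_congr rfl fun i _ => mul_comm _ _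
    obtain ⟨w, hw⟩ : ∃ w : ZMod r, w = z ^ 11 := ⟨_, rfl⟩
    obtain ⟨U, hU⟩ : ∃ U : Fin 6 → ZMod r,
        U = ∑ k ∈ Finset.range 12, w ^ k • fun j => (((vE6 s ᵥ* W ^ k) j : ℤ) : ZMod r) := ⟨_, rfl⟩
    have hf := W.aeval_self_charpoly
    rw [hχ, cyclotomic_twelve, cyclotomic_three] at hf
    simp only [map_mul, map_add, map_sub, map_pow, aeval_X, map_one] at hf
    have h12 : W ^ 12 = 1 := by
      have : W ^ 12 - 1 = (W ^ 4 - W ^ 2 + 1) * (W ^ 2 + W + 1) * ((W ^ 2 - W + 1) * (W ^ 4 - 1)) := by noncomm_ring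
      rw [hf, zero_mul, sub_eq_zero] at this
      exact this
    have hwz : z * w = 1 := by rw [hw, ← pow_succ', hz.pow_eq_one]
    have hw12 : w ^ 12 = 1 := by rw [hw, ← pow_mul, mul_comm, pow_mul, hz.pow_eq_one, one_pow]
    have hUW : U ᵥ* W.map (Int.cast : ℤ → ZMod r) = z • U := by
      obtain ⟨T, hT⟩ : ∃ T : ℕ → Fin 6 → ZMod r, ∀ k, T k = w ^ k • fun j => (((vE6 s ᵥ* W ^ k) j : ℤ) : ZMod r) :=
        ⟨_, fun _ => rfl⟩
      simp only [← hT] at hU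
      have hstep : ∀ k, T k ᵥ* W.map (Int.cast : ℤ → ZMod r) = z • T (k + 1) := by
        intro k
        rw [hT, hT, Matrix.smul_vecMul, smul_smul, pow_succ' w, ← mul_assoc, hwz, one_mul, ← cast_vecMul,
          Matrix.vecMul_vecMul, ← pow_succ]
      have hlast : T 12 = T 0 := by rw [hT, hT, h12, hw12, pow_zero, pow_zero]
      rw [hU, Matrix.sum_vecMul, Finset.smul_sum]
      simp only [hstep]
      have h0 := Finset.sum_range_succ' (fun k => z • T k) 12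
      rw [Finset.sum_range_succ, hlast] at h0
      exact (add_right_cancel h0).symm
    obtain ⟨t, ht⟩ : ∃ t : ZMod r, U = t • a := by
      have hcard : Nat.card {v : Fin 6 → ZMod r // v ᵥ* W.map (Int.cast : ℤ → ZMod r) = z • v} = r := hbc
      let g : ZMod r → {v : Fin 6 → ZMod r // v ᵥ* W.map (Int.cast : ℤ → ZMod r) = z • v} :=
        fun t => ⟨t • a, by
          rw [Matrix.smul_vecMul, show a ᵥ* W.map (Int.cast : ℤ → ZMod r) = z • a from heig, smul_comm]⟩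
      have hg : Function.Bijective g := (Nat.bijective_iff_injective_and_card g).2 ⟨fun t t' h => by
        obtain ⟨i, hi⟩ := Function.ne_iff.1 ha
        have h1 := congrFun (congrArg Subtype.val h) i
        simp only [g, Pi.smul_apply, smul_eq_mul] at h1
        exact mul_right_cancel₀ hi h1, by rw [Nat.card_zmod, hcard]⟩
      obtain ⟨t, ht⟩ := hg.2 ⟨U, hUW⟩
      exact ⟨t, (congrArg Subtype.val ht).symm⟩
    obtain ⟨av, cv, hav, hav', hcv, hlist⟩ := gram_values W hroots hB hχ s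
    have hS : ∑ k ∈ Finset.range 12, w ^ k * ((ipE6 (vE6 s ᵥ* W ^ k) (vE6 s) : ℤ) : ZMod r) = 0 := by
      have h1 : ∑ i, U i * (((vE6 s ᵥ* bE6) i : ℤ) : ZMod r) = 0 := by
        rw [ht]
        simp only [Pi.smul_apply, smul_eq_mul, mul_assoc, ← Finset.mul_sum]
        rw [hzero, mul_zero]
      rw [hU] at h1
      simp only [Finset.sum_apply, Pi.smul_apply, smul_eq_mul, Finset.sum_mul] at h1
      rw [Finset.sum_comm] at h1
      rw [← h1]
      refine Finset.sum_congr rfl fun k _ => ?_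
      rw [← ipE6_eq]
      simp only [dotProduct, Int.cast_sum, Int.cast_mul, Finset.mul_sum]
      exact Finset.sum_congr rfl fun i _ => by ring
    have hget : ∀ k < 12, ((ipE6 (vE6 s ᵥ* W ^ k) (vE6 s) : ℤ)) =
        [2, av, 1 - cv, cv, -1, -av - cv, 2 * cv - 2, -av - cv, -1, cv, 1 - cv, av].getD k 0 := by
      intro k hk
      rw [hlist, List.getD_eq_getElem _ _ (by simpa using hk), List.getElem_map, List.getElem_range]
    rw [Finset.sum_congr rfl fun k hk => by rw [hget k (Finset.mem_range.1 hk)]] at hS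
    simp [Finset.sum_range_succ] at hS
    have hw4 : w ^ 4 = w ^ 2 - 1 := by
      have hne12 : NeZero ((12 : ℕ) : ZMod r) := ⟨fun h0 => hr12 ((ZMod.natCast_eq_zero_iff _ _).1 h0)⟩
      have h := hw ▸ hz.pow_of_coprime 11 (by decide)
      rw [← Polynomial.isRoot_cyclotomic_iff, ← map_cyclotomic_int, IsRoot.def, eval_map, cyclotomic_twelve] at h
      simp only [eval₂_add, eval₂_sub, eval₂_X_pow, eval₂_one] at h
      linear_combination h
    have hkey : ((3 * (3 * (2 - cv) ^ 2 - (2 * av + cv) ^ 2) : ℤ) : ZMod r) = 0 := by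
      push_cast
      have hsum : 3 * (2 - (cv : ZMod r)) + (2 * (av : ZMod r) + cv) * (2 * w - w ^ 3) = 0 := by
        linear_combination hS - ((-4 + 3 * (cv : ZMod r)) + (-3 * (av : ZMod r) - 2 * cv) * w + (-3 + 2 * (cv : ZMod r)) * w ^ 2
          - (av : ZMod r) * w ^ 3 - (cv : ZMod r) * w ^ 4 + ((av : ZMod r) + cv) * w ^ 5 + (1 - (cv : ZMod r)) * w ^ 6
          + (av : ZMod r) * w ^ 7) * hw4
      have hsq : (2 * w - w ^ 3) ^ 2 = 3 := by linear_combination (w ^ 2 - 3) * hw4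
      linear_combination (3 * (2 - (cv : ZMod r)) - (2 * (av : ZMod r) + cv) * (2 * w - w ^ 3)) * hsum +
        (2 * (av : ZMod r) + cv) ^ 2 * hsq
    exact not_dvd_of_bounds hrp hr13 av cv hav hav' hcv ((ZMod.intCast_zmod_eq_zero_iff_dvd _ r).1 hkey)
  · -- socles
    have : Fact p.Prime := ⟨hp⟩
    have hpP : (p : ℤ) ^ 2 ∣ ((q : ℤ) ^ 4 - (q : ℤ) ^ 2 + 1) * ((q : ℤ) ^ 2 + q + 1) := by
      rw [← hP]; exact_mod_cast hp2
    have hp2' : p ≠ 2 := by
      rintro rfl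
      have h := (ZMod.intCast_zmod_eq_zero_iff_dvd _ 2).2 ((dvd_pow_self (2 : ℤ) two_ne_zero).trans hpP)
      push_cast at h
      exact two_val _ h
    have hp3 : p ≠ 3 := by
      rintro rfl
      have h := (ZMod.intCast_zmod_eq_zero_iff_dvd _ 9).2 (show ((9 : ℕ) : ℤ) ∣ _ from hpP)
      push_cast at h
      exact (by decide +kernel : ∀ x : ZMod 9, (x ^ 4 - x ^ 2 + 1) * (x ^ 2 + x + 1) ≠ 0) _ h
    have hp12 : ¬ p ∣ 12 := fun h => by
      rcases hp.dvd_mul.1 (show p ∣ 2 ^ 2 * 3 from h) with h1 | h1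
      · exact hp2' ((Nat.prime_dvd_prime_iff_eq hp Nat.prime_two).1 (hp.dvd_of_dvd_pow h1))
      · exact hp3 ((Nat.prime_dvd_prime_iff_eq hp Nat.prime_three).1 h1)
    have h12 : W ^ 12 = 1 := by
      have hf := W.aeval_self_charpoly
      rw [hχ, cyclotomic_twelve, cyclotomic_three] at hf
      simp only [map_mul, map_add, map_sub, map_pow, aeval_X, map_one] at hf
      have : W ^ 12 - 1 = (W ^ 4 - W ^ 2 + 1) * (W ^ 2 + W + 1) * ((W ^ 2 - W + 1) * (W ^ 4 - 1)) := by noncomm_ring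
      rw [hf, zero_mul, sub_eq_zero] at this
      exact this
    obtain ⟨d, hd, hzd⟩ : ∃ d, (d = 12 ∨ d = 3) ∧ IsPrimitiveRoot ((q : ℕ) : ZMod p) d := by
      have hprime := (Nat.prime_iff_prime_int.1 hp)
      rcases hprime.dvd_mul.1 ((dvd_pow_self (p : ℤ) two_ne_zero).trans hpP) with h | h
      · exact ⟨12, Or.inl rfl, primitive_twelve hp2' hp3 h⟩
      · refine ⟨3, Or.inr rfl, ?_⟩
        have : NeZero ((3 : ℕ) : ZMod p) := ⟨fun h0 => hp3 ((Nat.prime_dvd_prime_iff_eq hp Nat.prime_three).1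
          ((ZMod.natCast_eq_zero_iff _ _).1 h0))⟩
        rw [← Polynomial.isRoot_cyclotomic_iff, cyclotomic_three, IsRoot.def]
        have h2 := (ZMod.intCast_zmod_eq_zero_iff_dvd _ p).2 h
        push_cast at h2
        simpa using h2
    have hd12 : d ∣ 12 := by rcases hd with rfl | rfl <;> norm_num
    obtain ⟨b, hb, hb6, hbc⟩ := card_left_eigen W (by norm_num) h12 hp12 (fun h => hp12 (h.trans hd12)) hzd
    refine le_trans hbc.le ((Nat.pow_le_pow_right hp.pos ?_).trans (pow_one p).le)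
    rcases hd with rfl | rfl
    · rw [show Nat.totient 12 = 4 from by decide] at hb6; omega
    · by_contra hb2
      have h := ((pow_dvd_pow (cyclotomic 3 ℤ) (show 2 ≤ b by omega)).trans hb)
      rw [hχ, sq, mul_comm (cyclotomic 12 ℤ), mul_dvd_mul_iff_left (cyclotomic_ne_zero 3 ℤ)] at h
      have h2 := eval_dvd (x := (1 : ℤ)) h
      rw [cyclotomic_twelve, cyclotomic_three] at h2
      norm_num at h2

end CfsgLib.Known.ScTorus
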