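import Mathlib

/-!
# Kernels of integral matrices on `(ℤ/N)ⁿ`
-/

set_option autoImplicit false

namespace CfsgLib.Known.ScTorus

open scoped Matrix

variable {l : ℕ}

/-- The vectors over `ℤ/N` killed by an integral matrix acting on the right. -/
def leftKer (N : ℕ) (A : Matrix (Fin l) (Fin l) ℤ) : AddSubgroup (Fin l → ZMod N) :=
  (Matrix.vecMulLinear (A.map (Int.cast : ℤ → ZMod N))).toAddMonoidHom.ker

theorem mem_leftKer {N : ℕ} {A : Matrix (Fin l) (Fin l) ℤ} {a : Fin l → ZMod N} :
    a ∈ leftKer N A ↔ a ᵥ* A.map (Int.cast : ℤ → ZMod N) = 0 := Iff.rfl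

theorem cast_vecMul (N : ℕ) (x : Fin l → ℤ) (A : Matrix (Fin l) (Fin l) ℤ) :
    (fun j => ((x ᵥ* A) j : ZMod N)) = (fun i => (x i : ZMod N)) ᵥ* A.map (Int.cast : ℤ → ZMod N) := by
  funext j
  simp [Matrix.vecMul, dotProduct]

/-- The kernel has order `|det|` when this number divides `N`. -/
theorem card_leftKer (N : ℕ) [NeZero N] (A : Matrix (Fin l) (Fin l) ℤ) (hA : A.det ≠ 0)
    (hN : A.det ∣ (N : ℤ)) : Nat.card (leftKer N A) = A.det.natAbs := by
  obtain ⟨e, he⟩ := hN
  obtain ⟨f, hf⟩ : ∃ f, f = Matrix.vecMulLinear A := ⟨_, rfl⟩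
  have hfinj : Function.Injective f := by
    rw [hf]
    intro x y h
    have h2 := congrArg (· ᵥ* A.adjugate) h
    simp only [Matrix.vecMulLinear_apply, Matrix.vecMul_vecMul, Matrix.mul_adjugate, Matrix.vecMul_smul,
      Matrix.vecMul_one] at h2
    exact smul_right_injective _ hA h2
  have hcok : Nat.card ((Fin l → ℤ) ⧸ LinearMap.range f) = A.det.natAbs := by
    rw [← Submodule.natAbs_det_equiv (LinearMap.range f) (LinearEquiv.ofInjective f hfinj)]
    refine congrArg Int.natAbs ?_
    have hcomp : (LinearMap.range f).subtype ∘ₗ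
        AddMonoidHom.toIntLinearMap ((LinearEquiv.ofInjective f hfinj : (Fin l → ℤ) →+ _)) = f :=
      LinearMap.ext fun x => rfl
    rw [hcomp, hf, show Matrix.vecMulLinear A = Matrix.toLin' Aᵀ from LinearMap.ext fun x => by
      rw [Matrix.toLin'_apply, Matrix.mulVec_transpose]; rfl, LinearMap.det_toLin', Matrix.det_transpose]
  rw [← hcok]
  obtain ⟨ψ, hψ⟩ : ∃ ψ : (Fin l → ℤ) →+ (Fin l → ZMod N), ∀ x j,
      ψ x j = (((e • (x ᵥ* A.adjugate)) j : ℤ) : ZMod N) := by
    refine ⟨AddMonoidHom.mk' (fun x j => (((e • (x ᵥ* A.adjugate)) j : ℤ) : ZMod N)) fun x y => ?_, fun _ _ => rfl⟩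
    funext j
    simp [Matrix.add_vecMul, mul_add]
  have hψA : ∀ y, ψ y ᵥ* A.map (Int.cast : ℤ → ZMod N) = 0 := by
    intro y
    rw [show ψ y = fun j => (((e • (y ᵥ* A.adjugate)) j : ℤ) : ZMod N) from funext fun j => hψ y j, ← cast_vecMul]
    funext j
    rw [Matrix.smul_vecMul, Matrix.vecMul_vecMul, Matrix.adjugate_mul, Matrix.vecMul_smul, Matrix.vecMul_one,
      smul_smul, mul_comm e, ← he]
    simp
  obtain ⟨ψ', hψ'⟩ : ∃ ψ' : (Fin l → ℤ) →+ leftKer N A, ∀ x, (ψ' x : Fin l → ZMod N) = ψ x :=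
    ⟨ψ.codRestrict _ fun x => hψA x, fun _ => rfl⟩
  have he0 : e ≠ 0 := fun h => by rw [h, mul_zero] at he; exact NeZero.ne N (by exact_mod_cast he)
  have hker : ψ'.ker = (LinearMap.range f).toAddSubgroup := by
    ext x
    rw [AddMonoidHom.mem_ker, Submodule.mem_toAddSubgroup, LinearMap.mem_range, Subtype.ext_iff, hψ']
    constructor
    · intro hx
      have hd : ∀ j, A.det ∣ (x ᵥ* A.adjugate) j := by
        intro j
        have h := congrFun hx j
        rw [hψ, Pi.smul_apply, smul_eq_mul, ZeroMemClass.coe_zero, Pi.zero_apply,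
          ZMod.intCast_zmod_eq_zero_iff_dvd, he, mul_comm A.det] at h
        exact (mul_dvd_mul_iff_left he0).1 h
      choose y hy using hd
      refine ⟨y, ?_⟩
      have h := congrArg (· ᵥ* A) (show x ᵥ* A.adjugate = A.det • y from funext hy)
      simp only [Matrix.vecMul_vecMul, Matrix.adjugate_mul, Matrix.vecMul_smul, Matrix.vecMul_one,
        Matrix.smul_vecMul] at h
      rw [hf]
      exact smul_right_injective _ hA h.symm
    · rintro ⟨y, rfl⟩
      funext j
      rw [hψ, hf, Matrix.vecMulLinear_apply, Matrix.vecMul_vecMul, Matrix.mul_adjugate, Matrix.vecMul_smul,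
        Matrix.vecMul_one, smul_smul, mul_comm e, ← he]
      simp
  have hsurj : Function.Surjective ψ' := by
    rintro ⟨a, ha⟩
    have ha' := congrArg (fun v => v) (mem_leftKer.1 ha)
    have hd : ∀ j, (N : ℤ) ∣ ((fun i => ((a i).val : ℤ)) ᵥ* A) j := by
      intro j
      rw [← ZMod.intCast_zmod_eq_zero_iff_dvd]
      have h := congrFun (cast_vecMul N (fun i => ((a i).val : ℤ)) A) j
      rw [h]
      simpa using congrFun ha' j
    choose y hy using hd
    refine ⟨y, Subtype.ext (funext fun j => ?_)⟩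
    rw [hψ', hψ]
    have h := congrArg (· ᵥ* A.adjugate) (show (fun i => ((a i).val : ℤ)) ᵥ* A = (N : ℤ) • y from funext hy)
    simp only [Matrix.vecMul_vecMul, Matrix.mul_adjugate, Matrix.vecMul_smul, Matrix.vecMul_one,
      Matrix.smul_vecMul] at h
    rw [he, mul_smul] at h
    have h2 := congrFun (smul_right_injective _ hA h) j
    rw [← h2]
    simp
  rw [← Nat.card_congr (QuotientAddGroup.quotientKerEquivOfSurjective ψ' hsurj).toEquiv, hker]
  rfl

/-- A finite commutative group whose elements killed by a prime number at most as many as the prime is cyclic. -/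
theorem isCyclic_of_socle {A : Type*} [CommGroup A] [Finite A]
    (h : ∀ p : ℕ, p.Prime → Nat.card {x : A // x ^ p = 1} ≤ p) : IsCyclic A := by
  classical
  let _ := Fintype.ofFinite A
  refine isCyclic_of_card_pow_eq_one_le fun n hn => ?_
  suffices H : ∀ n, 0 < n → Nat.card {x : A // x ^ n = 1} ≤ n by
    have := H n hn
    rwa [Nat.card_eq_fintype_card, Fintype.card_subtype] at this
  intro n
  induction n using Nat.strong_induction_on with
  | _ n ih =>
    intro hn
    rcases Nat.eq_or_lt_of_le (Nat.succ_le_of_lt hn) with h1 | h1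
    · rw [← h1]
      have : Subsingleton {x : A // x ^ (0 + 1) = 1} := ⟨fun a b => Subtype.ext (by
        have ha : (a : A) = 1 := by simpa using a.2
        have hb : (b : A) = 1 := by simpa using b.2
        rw [ha, hb])⟩
      exact Finite.card_le_one_iff_subsingleton.2 this
    obtain ⟨p, hp, hpn⟩ := Nat.exists_prime_and_dvd (show n ≠ 1 by omega)
    obtain ⟨k, hk⟩ := hpn
    have hk0 : 0 < k := Nat.pos_of_ne_zero fun h => by rw [h, mul_zero] at hk; omega
    have hkn : k < n := by rw [hk]; exact lt_mul_of_one_lt_left hk0 hp.one_lt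
    obtain ⟨φ, hφ⟩ : ∃ φ, φ = (powMonoidHom p : A →* A).comp (powMonoidHom n : A →* A).ker.subtype := ⟨_, rfl⟩
    have hcard := Subgroup.card_eq_card_quotient_mul_card_subgroup φ.ker
    rw [Nat.card_congr (QuotientGroup.quotientKerEquivRange φ).toEquiv] at hcard
    have h2 : Nat.card φ.range ≤ k := by
      refine le_trans (Nat.card_le_card_of_injective
        (fun x : φ.range => (⟨(x : A), ?_⟩ : {x : A // x ^ k = 1})) fun a b e => Subtype.ext (by simpa using e))
        (ih k hkn hk0)
      obtain ⟨y, hy⟩ := x.2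
      rw [← hy, hφ, MonoidHom.comp_apply, Subgroup.coe_subtype, powMonoidHom_apply, ← pow_mul, ← hk]
      exact MonoidHom.mem_ker.1 y.2
    have h3 : Nat.card φ.ker ≤ p := by
      refine le_trans (Nat.card_le_card_of_injective
        (fun x : φ.ker => (⟨((x : (powMonoidHom n : A →* A).ker) : A), ?_⟩ : {x : A // x ^ p = 1}))
        fun a b e => Subtype.ext (Subtype.ext (by simpa using e))) (h p hp)
      have h4 := (DFunLike.congr_fun hφ _).symm.trans (MonoidHom.mem_ker.1 x.2)
      simpa using h4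
    calc Nat.card {x : A // x ^ n = 1} = Nat.card (powMonoidHom n : A →* A).ker :=
          Nat.card_congr (Equiv.subtypeEquivRight fun x => by simp [MonoidHom.mem_ker])
      _ = Nat.card φ.range * Nat.card φ.ker := hcard
      _ ≤ k * p := Nat.mul_le_mul h2 h3
      _ = n := by rw [hk, mul_comm]

end CfsgLib.Known.ScTorus
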