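import Cfsg.Agent.Lib.Known.ChevFixed
import Cfsg.Agent.Lib.Known.TrialityTorus.Tools
import Cfsg.Agent.Lib.Lie.Rel.Steinberg

/-!
# Functoriality of Steinberg's group and fixed points of field automorphisms
-/

set_option autoImplicit false

namespace CfsgLib.Known.ScTorus

open Cfsg.Lie (ChevalleyDatum)
open CfsgLib.Lie.Chev

variable {D : ChevalleyDatum} {X : Aux} (C : Cert D X) {L : List (ℕ × ℕ × ℕ × List ℤ)}
  (hL : chkWits D X L = true) {F K : Type*} [Field F] [Field K]

include C hL in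
theorem map_rels (j : F →+* K) : ∀ g ∈ D.steinbergRels F,
    FreeGroup.lift (fun p : Fin D.nroots × F => D.stGen K p.1 (j p.2)) g = 1 := by
  have hX : ∀ (r : ℕ) (t : F),
      FreeGroup.lift (fun p : Fin D.nroots × F => D.stGen K p.1 (j p.2)) (D.stX r t) = D.stGen K r (j t) := by
    intro r t
    unfold ChevalleyDatum.stX
    split_ifs with h
    · exact FreeGroup.lift_apply_of
    · rw [map_one, ChevalleyDatum.stGen, ChevalleyDatum.stX, dif_neg h, map_one]
  have hW : ∀ w : List (ℕ × F), FreeGroup.lift (fun p : Fin D.nroots × F => D.stGen K p.1 (j p.2)) (D.stWord w) =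
      (w.map fun p => D.stGen K p.1 (j p.2)).prod := fun w => by
    rw [ChevalleyDatum.stWord, map_list_prod, List.map_map]
    exact congrArg List.prod (List.map_congr_left fun p _ => hX p.1 p.2)
  have hH : ∀ (r : ℕ) (t : F), FreeGroup.lift (fun p : Fin D.nroots × F => D.stGen K p.1 (j p.2)) (D.stH r t) =
      heOf D (D.stGen K) r (j t) := fun r t => by
    rw [ChevalleyDatum.stH, hW]
    simp [heOf, neOf, ChevalleyDatum.hWord, ChevalleyDatum.nWord, mul_assoc]
  rintro g ((⟨r, t, u, hr, rfl⟩ | ⟨r, s, t, u, hr, hs, h1, h2, rfl⟩) | ⟨r, t, u, hr, ht, hu, rfl⟩)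
  · simp only [map_mul, map_inv, hX, mul_inv_eq_one]
    rw [map_add]; exact stGen_add K r _ _ hr
  · simp only [map_mul, map_inv, hX, hW, mul_inv_eq_one]
    have e : ((D.commWord F r s t u).map fun p => D.stGen K p.1 (j p.2)).prod =
        ((D.commWord K r s (j t) (j u)).map fun p => D.stGen K p.1 p.2).prod := by
      simp [ChevalleyDatum.commWord, List.map_map, Function.comp_def]
    rw [e, mul_assoc _ (D.stGen K s (j u)), stGen_comm K r s (j t) (j u) hr hs h1 h2]; group
  · simp only [map_mul, map_inv, hH, mul_inv_eq_one]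
    exact (stRel C K hL).he_mul ⟨r, hr⟩ ((map_ne_zero j).2 ht) ((map_ne_zero j).2 hu)

/-- The map of Steinberg groups induced by a map of fields. -/
def stMap (j : F →+* K) : D.SteinbergGroup F →* D.SteinbergGroup K := PresentedGroup.toGroup (map_rels C hL j)

theorem stMap_gen (j : F →+* K) (r : ℕ) (t : F) : stMap C hL j (D.stGen F r t) = D.stGen K r (j t) := by
  unfold ChevalleyDatum.stGen ChevalleyDatum.stX
  split_ifs with h
  · refine (PresentedGroup.toGroup.of (map_rels C hL j)).trans ?_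
    show D.stGen K r (j t) = _
    rw [ChevalleyDatum.stGen, ChevalleyDatum.stX, dif_pos h]
  · rw [map_one, map_one, map_one]

theorem stMap_ne (j : F →+* K) (r : ℕ) (c : F) :
    stMap C hL j ((stRel C F hL).ne r c) = (stRel C K hL).ne r (j c) := by
  show stMap C hL j (D.stGen F r c * D.stGen F (D.neg r) (-c⁻¹) * D.stGen F r c) =
    D.stGen K r (j c) * D.stGen K (D.neg r) (-(j c)⁻¹) * D.stGen K r (j c)
  simp only [map_mul, stMap_gen, map_neg, map_inv₀]

theorem stMap_he (j : F →+* K) (r : ℕ) (c : F) :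
    stMap C hL j ((stRel C F hL).he r c) = (stRel C K hL).he r (j c) := by
  show stMap C hL j ((stRel C F hL).ne r c * (stRel C F hL).ne r (-1)) = _
  rw [map_mul, stMap_ne, stMap_ne, map_neg, map_one]
  rfl

theorem stMap_torusHom (j : F →+* K) (c : Fin D.rank → Fˣ) :
    stMap C hL j ((stRel C F hL).torusHom c : (stRel C F hL).HS) =
      ((stRel C K hL).torusHom fun i => Units.map (j : F →* K) (c i) : (stRel C K hL).HS) := by
  classical
  have key : (stMap C hL j).comp ((stRel C F hL).HS.subtype.comp (stRel C F hL).torusHom) =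
      (stRel C K hL).HS.subtype.comp ((stRel C K hL).torusHom.comp
        (MonoidHom.compLeft (Units.map (j : F →* K)) (Fin D.rank))) := by
    refine MonoidHom.pi_ext fun i u => ?_
    have e : MonoidHom.compLeft (Units.map (j : F →* K)) (Fin D.rank) (Pi.mulSingle i u) =
        Pi.mulSingle i (Units.map (j : F →* K) u) := by
      funext k
      rcases eq_or_ne k i with rfl | hk
      · simp
      · simp [Pi.mulSingle_eq_of_ne hk]
    simp only [MonoidHom.comp_apply, e, Rel.torusHom_single]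
    exact stMap_he C hL j _ _
  exact DFunLike.congr_fun key c

theorem stMap_comp {E : Type*} [Field E] (j : F →+* K) (k : K →+* E) (g : D.SteinbergGroup F) :
    stMap C hL k (stMap C hL j g) = stMap C hL (k.comp j) g := by
  have h : (stMap C hL k).comp (stMap C hL j) = stMap C hL (k.comp j) := by
    refine MonoidHom.eq_of_eqOn_dense (stRel C F hL).gen ?_
    rintro _ ⟨r, t, rfl⟩
    show stMap C hL k (stMap C hL j (D.stGen F r t)) = stMap C hL (k.comp j) (D.stGen F r t)
    rw [stMap_gen, stMap_gen, stMap_gen]; rfl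
  exact DFunLike.congr_fun h g

theorem stTheta_stMap (j : F →+* K) (g : D.SteinbergGroup F) :
    stTheta C K (stMap C hL j g) = ChevFixed.groupMap D j (stTheta C F g) := by
  have h : (stTheta C K).comp (stMap C hL j) = (ChevFixed.groupMap D j).comp (stTheta C F) := by
    refine MonoidHom.eq_of_eqOn_dense (stRel C F hL).gen ?_
    rintro _ ⟨r, t, rfl⟩
    show stTheta C K (stMap C hL j (D.stGen F r t)) = ChevFixed.groupMap D j (stTheta C F (D.stGen F r t))
    rw [stMap_gen, stTheta_gen, stTheta_gen]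
    exact (ChevFixed.groupMap_xe C j r t).symm
  exact DFunLike.congr_fun h g

theorem stMap_injective (j : F →+* K)
    (hinjK : Function.Injective (stRel C K hL).torusHom) : Function.Injective (stMap C hL j) := by
  rw [injective_iff_map_eq_one]
  intro g hg
  have h1 := stTheta_stMap C hL j g
  rw [hg, map_one, eq_comm, map_eq_one_iff _ (ChevFixed.groupMap_injective j)] at h1
  obtain ⟨c, hc⟩ := (stRel C F hL).torusHom_surjective
    ⟨g, (stRel C F hL).ker_le_HS (MonoidHom.mem_ker.1 (by rw [ker_stRel]; exact h1))⟩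
  have hgc : ((stRel C F hL).torusHom c : D.SteinbergGroup F) = g := congrArg Subtype.val hc
  rw [← hgc, stMap_torusHom] at hg
  have h2 := hinjK ((Subtype.ext hg : _ = (1 : (stRel C K hL).HS)).trans (map_one _).symm)
  have h3 : c = 1 := funext fun i => Units.map_injective j.injective ((congrFun h2 i).trans (map_one _).symm)
  rw [← hgc, h3, map_one]
  rfl

theorem stMap_mem_US (σ : K →+* K) (S : Set (Fin D.nroots)) {g : D.SteinbergGroup K}
    (hg : g ∈ (stRel C K hL).US S) : stMap C hL σ g ∈ (stRel C K hL).US S := by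
  suffices h : (stRel C K hL).US S ≤ Subgroup.comap (stMap C hL σ) ((stRel C K hL).US S) from h hg
  refine (stRel C K hL).US_le fun r hr t => ?_
  show stMap C hL σ (D.stGen K r t) ∈ (stRel C K hL).US S
  rw [stMap_gen]
  exact (stRel C K hL).xe_mem_US hr _

theorem stMap_mem_HS (σ : K →+* K) {g : D.SteinbergGroup K} (hg : g ∈ (stRel C K hL).HS) :
    stMap C hL σ g ∈ (stRel C K hL).HS := by
  suffices h : (stRel C K hL).HS ≤ Subgroup.comap (stMap C hL σ) ((stRel C K hL).HS) from h hg
  refine (Subgroup.closure_le _).2 ?_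
  rintro _ ⟨i, c, hc, rfl⟩
  show stMap C hL σ _ ∈ (stRel C K hL).HS
  rw [stMap_he]
  exact (stRel C K hL).he_mem_HS i ((map_ne_zero σ).2 hc)

theorem stMap_mem_BS (σ : K →+* K) {g : D.SteinbergGroup K} (hg : g ∈ (stRel C K hL).BS) :
    stMap C hL σ g ∈ (stRel C K hL).BS := by
  obtain ⟨u, hu, h, hh, rfl⟩ := (stRel C K hL).exists_of_mem_BS hg
  rw [map_mul]
  exact mul_mem ((stRel C K hL).UP_le_BS (stMap_mem_US C hL σ _ hu))
    ((stRel C K hL).HS_le_BS (stMap_mem_HS C hL σ hh))

/-- The fixed points of a field automorphism come from the fixed field. -/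
theorem eq_range_of_fixed (σ : K ≃+* K) (j : F →+* K) (hj : ∀ a : K, σ a = a ↔ a ∈ j.range)
    (hker : Function.Injective (stRel C K hL).torusHom) {g : D.SteinbergGroup K}
    (hg : stMap C hL σ.toRingHom g = g) : g ∈ (stMap C hL j).range := by
  obtain ⟨R, hR⟩ : ∃ R, R = stRel C K hL := ⟨_, rfl⟩
  subst hR
  obtain ⟨φ, hφ⟩ : ∃ φ, φ = stMap C hL σ.toRingHom := ⟨_, rfl⟩
  rw [← hφ] at hg
  have hxe : ∀ r t, σ t = t → (stRel C K hL).xe r t ∈ (stMap C hL j).range := fun r t ht => by
    obtain ⟨a, rfl⟩ := (hj t).1 ht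
    exact ⟨D.stGen F r a, stMap_gen C hL j r a⟩
  have hne : ∀ r c, σ c = c → (stRel C K hL).ne r c ∈ (stMap C hL j).range := fun r c hc => by
    refine mul_mem (mul_mem (hxe _ _ hc) (hxe _ _ ?_)) (hxe _ _ hc)
    rw [map_neg, map_inv₀, hc]
  have hfix : ∀ x ∈ (stMap C hL j).range, φ x = x := by
    rintro _ ⟨x, rfl⟩
    rw [hφ, stMap_comp]
    exact congrArg (fun k => stMap C hL k x) (RingHom.ext fun a => (hj _).2 ⟨a, rfl⟩)
  obtain ⟨b, hb, n, u, hu, rfl⟩ := (stRel C K hL).exists_bnu g
  obtain ⟨l, hl⟩ := (stRel C K hL).exists_word n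
  obtain ⟨n', hn'⟩ : ∃ n', n' = (l.map (stRel C K hL).nS).prod := ⟨_, rfl⟩
  have hqn : (stRel C K hL).qmk n' = (stRel C K hL).qmk n := by
    rw [hl, hn', map_list_prod, List.map_map]; rfl
  have hn'mem : (n' : D.SteinbergGroup K) ∈ (stMap C hL j).range := by
    rw [hn', SubmonoidClass.coe_list_prod, List.map_map]
    refine list_prod_mem fun x hx => ?_
    obtain ⟨i, -, rfl⟩ := List.mem_map.1 hx
    exact hne _ _ (map_one σ)
  have hH : (n : D.SteinbergGroup K) * (n' : D.SteinbergGroup K)⁻¹ ∈ (stRel C K hL).HS :=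
    (stRel C K hL).qmk_eq_one (g := n * n'⁻¹) |>.1 (by rw [map_mul, map_inv, hqn, mul_inv_cancel])
  have hperm : (stRel C K hL).nsPerm n' = (stRel C K hL).nsPerm n := by
    rw [← (stRel C K hL).qact_qmk, hqn]; rfl
  rw [← hperm] at hu
  obtain ⟨b', hb'def⟩ : ∃ b', b' = b * ((n : D.SteinbergGroup K) * (n' : D.SteinbergGroup K)⁻¹) := ⟨_, rfl⟩
  have hb' : b' ∈ (stRel C K hL).BS := hb'def ▸ mul_mem hb ((stRel C K hL).HS_le_BS hH)
  have hform : b * (n : D.SteinbergGroup K) * u = b' * n' * u := by rw [hb'def]; group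
  rw [hform] at hg ⊢
  rw [map_mul, map_mul, hfix _ hn'mem, hφ] at hg
  obtain ⟨eb, eu⟩ := (stRel C K hL).bnu_unique (stMap_mem_BS C hL _ hb') hb' (stMap_mem_US C hL _ _ hu) hu hg
  have hUP : ∀ v ∈ (stRel C K hL).UP, stMap C hL σ.toRingHom v = v → v ∈ (stMap C hL j).range := by
    intro v hv hfv
    obtain ⟨t, rfl⟩ := (stRel C K hL).exists_oprod_UP hv
    have ho : stMap C hL σ.toRingHom ((stRel C K hL).oprod (half D) (half D) t) =
        (stRel C K hL).oprod (half D) (half D) fun r => σ (t r) := by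
      simp only [Rel.oprod, map_list_prod, List.map_map, Function.comp_def]
      exact congrArg List.prod (List.map_congr_left fun r _ => stMap_gen C hL _ r (t r))
    rw [ho] at hfv
    have ht := (stRel C K hL).oprod_inj (half D) (half D) _ t le_rfl (by have := C.nroots_eq; omega)
      (congrArg (stRel C K hL).θ hfv)
    refine list_prod_mem fun x hx => ?_
    obtain ⟨r, hr, rfl⟩ := List.mem_map.1 hx
    rw [List.mem_range'_1] at hr
    exact hxe _ _ (ht r hr.1 hr.2)
  obtain ⟨v, hv, h, hh, rfl⟩ := (stRel C K hL).exists_of_mem_BS hb'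
  rw [map_mul] at eb
  have h1 : v⁻¹ * stMap C hL σ.toRingHom v = h * (stMap C hL σ.toRingHom h)⁻¹ := by
    rw [eq_mul_inv_iff_mul_eq, mul_assoc, eb]; group
  have h2 : v⁻¹ * stMap C hL σ.toRingHom v ∈ (stRel C K hL).UP ⊓ (stRel C K hL).HS :=
    Subgroup.mem_inf.2 ⟨mul_mem (inv_mem hv) (stMap_mem_US C hL _ _ hv),
      h1 ▸ mul_mem hh (inv_mem (stMap_mem_HS C hL _ hh))⟩
  rw [(stRel C K hL).UP_inf_HS, Subgroup.mem_bot, inv_mul_eq_one] at h2
  rw [← h2, inv_mul_cancel] at h1
  have h3 : stMap C hL σ.toRingHom h = h :=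
    (inv_inv (stMap C hL σ.toRingHom h)).symm.trans (inv_eq_of_mul_eq_one_left h1.symm)
  refine mul_mem (mul_mem (mul_mem (hUP v hv h2.symm) ?_) hn'mem)
    (hUP u ((stRel C K hL).US_mono (Rel.invSet_subset _) hu) eu)
  obtain ⟨c, hc⟩ := (stRel C K hL).torusHom_surjective ⟨h, hh⟩
  have hc' : ((stRel C K hL).torusHom c : D.SteinbergGroup K) = h := congrArg Subtype.val hc
  rw [← hc', stMap_torusHom] at h3
  have hcc := hker (Subtype.ext h3)
  rw [← hc']
  have hmem : (stRel C K hL).torusHom c ∈ (stMap C hL j).range.subgroupOf (stRel C K hL).HS := by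
    let _ := (stRel C K hL).hsCommGroup
    rw [← Finset.univ_prod_mulSingle c, map_prod]
    refine Subgroup.prod_mem _ fun i _ => ?_
    rw [(stRel C K hL).torusHom_single]
    exact mul_mem (hne _ _ (congrArg Units.val (congrFun hcc i))) (hne _ _ (by rw [map_neg, map_one]))
  exact hmem

end CfsgLib.Known.ScTorus
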