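import Cfsg.Agent.Lib.Known.CyclicTorus.Weyl
import Cfsg.Agent.Lib.Lie.Rel.Bruhat
import Cfsg.Agent.Lib.Lie.Rel.Torus

/-!
# The action of the monomial group on the torus parameters of a simply laced root system
-/

set_option autoImplicit false

namespace CfsgLib.Known.ScTorus

open Cfsg.Lie (ChevalleyDatum)
open CfsgLib.Lie.Chev
open CfsgLib.Known.CyclicTorus (cvec wMat)

variable {D : ChevalleyDatum} {X : Aux} {F : Type*} [Field F] {G : Type*} [Group G]

/-- The check that the reflections act on coroots as on roots. -/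
def SLaced (D : ChevalleyDatum) (X : Aux) : Prop :=
  ∀ i k j : Fin D.rank, X.coef j (X.w k (D.simple i)) =
    (if i = j then 1 else 0) - (if k = j then D.cartan i (D.simple k) else 0)

/-- Conjugation by a monomial element raises torus parameters to the matrix of its root permutation. -/
theorem conj_torusHom (R : Rel D X F G) (hD : SLaced D X) (m : R.NS) (c : Fin D.rank → Fˣ) :
    (m : G) * R.torusHom c * (m : G)⁻¹ = R.torusHom (powMat Fˣ (wMat R (R.nsPerm m)) c) := by
  classical
  obtain ⟨T, hT⟩ : ∃ T : (Fin D.rank → Fˣ) →* G, T = R.HS.subtype.comp R.torusHom := ⟨_, rfl⟩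
  have hTc : ∀ c, T c = (R.torusHom c : G) := fun c => by rw [hT]; rfl
  suffices H : ∀ c, (m : G) * T c * (m : G)⁻¹ = T (powMat Fˣ (wMat R (R.nsPerm m)) c) by
    simpa only [hTc] using H c
  clear c
  have hmul : ∀ a b : R.NS, (∀ c, (a : G) * T c * (a : G)⁻¹ = T (powMat Fˣ (wMat R (R.nsPerm a)) c)) →
      (∀ c, (b : G) * T c * (b : G)⁻¹ = T (powMat Fˣ (wMat R (R.nsPerm b)) c)) →
      ∀ c, ((a * b : R.NS) : G) * T c * ((a * b : R.NS) : G)⁻¹ = T (powMat Fˣ (wMat R (R.nsPerm (a * b))) c) := by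
    intro a b ha hb c
    rw [map_mul, CyclicTorus.wMat_mul R (R.isLin_nsPerm a), powMat_mul, ← ha, ← hb, Subgroup.coe_mul]
    group
  have hH : ∀ a : R.NS, (a : G) ∈ R.HS → ∀ c, (a : G) * T c * (a : G)⁻¹ = T (powMat Fˣ (wMat R (R.nsPerm a)) c) := by
    intro a ha c
    rw [R.nsPerm_of_mem_HS a ha, CyclicTorus.wMat_one, powMat_one, hTc, R.HS_isMulCommutative ha (R.torusHom c).2,
      mul_inv_cancel_right]
  have hgen : ∀ k, ∀ c, (R.nS k : G) * T c * (R.nS k : G)⁻¹ = T (powMat Fˣ (wMat R (R.nsPerm (R.nS k))) c) := by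
    intro k c
    rw [R.nsPerm_nS]
    have key : (MulAut.conj (R.nS k : G)).toMonoidHom.comp T = T.comp (powMat Fˣ (wMat R (R.wperm k))) := by
      refine MonoidHom.pi_ext fun i u => ?_
      have e : powMat Fˣ (wMat R (R.wperm k)) (Pi.mulSingle i u) =
          Pi.mulSingle i u * Pi.mulSingle k (u⁻¹ ^ D.cartan i (D.simple k)) := by
        funext j
        rw [powMat_apply, Finset.prod_eq_single i (fun b _ hb => by rw [Pi.mulSingle_eq_of_ne hb, one_zpow])
          (fun h => absurd (Finset.mem_univ i) h), Pi.mulSingle_eq_same, Pi.mul_apply]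
        rw [show wMat R (R.wperm k) i j = X.coef j (X.w k (D.simple i)) from rfl, hD, zpow_sub]
        refine congrArg₂ (· * ·) ?_ ?_
        · by_cases h : i = j
          · subst h; simp
          · rw [if_neg h, zpow_zero, Pi.mulSingle_eq_of_ne (Ne.symm h)]
        · by_cases h : k = j
          · subst h; simp
          · rw [if_neg h, zpow_zero, inv_one, Pi.mulSingle_eq_of_ne (Ne.symm h)]
      simp only [MonoidHom.comp_apply, e, map_mul, hTc, Rel.torusHom_single]
      show R.ne (D.simple k) 1 * R.he (D.simple i) (u : F) * (R.ne (D.simple k) 1)⁻¹ =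
        R.he (D.simple i) (u : F) * R.he (D.simple k) ((u⁻¹ ^ D.cartan i (D.simple k) : Fˣ) : F)
      obtain ⟨g, hg, hM⟩ : ∃ g, g = (R.he (D.simple i) (u : F))⁻¹ ∧
          R.IsMon g 1 fun r => (u : F)⁻¹ ^ D.cartan i r := by
        refine ⟨_, rfl, ?_⟩
        have := R.isMon_inv (R.isMon_he_simple i u.ne_zero)
        simpa [inv_one, inv_zpow] using this
      have h1 := Rel.IsMon.conj_ne R hM (R.sroot k) 1
      simp only [Equiv.Perm.one_apply, Rel.sroot, mul_one] at h1
      rw [show R.he (D.simple i) (u : F) = g⁻¹ by rw [hg, inv_inv]]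
      have h3 : R.ne (D.simple k) 1 * g⁻¹ * (R.ne (D.simple k) 1)⁻¹ =
          g⁻¹ * (R.ne (D.simple k) ((u : F)⁻¹ ^ D.cartan i (D.simple k)) * (R.ne (D.simple k) 1)⁻¹) := by
        rw [← h1]; group
      rw [h3, R.ne_eq_he_mul _ ((u : F)⁻¹ ^ _), mul_inv_cancel_right]
      simp [Units.val_zpow_eq_zpow_val]
    exact DFunLike.congr_fun key c
  obtain ⟨l, hl⟩ := R.exists_word m
  have hw : ∀ l : List (Fin D.rank), ∀ c, (((l.map R.nS).prod : R.NS) : G) * T c * (((l.map R.nS).prod : R.NS) : G)⁻¹ =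
      T (powMat Fˣ (wMat R (R.nsPerm (l.map R.nS).prod)) c) := by
    intro l
    induction l with
    | nil => exact hH _ (by simp)
    | cons k l ih =>
      rw [List.map_cons, List.prod_cons]
      exact hmul _ _ (hgen k) ih
  have hm : m * (l.map R.nS).prod⁻¹ * (l.map R.nS).prod = m := inv_mul_cancel_right _ _
  rw [← hm]
  refine hmul _ _ (hH _ ?_) (hw l)
  refine (R.qmk_eq_one).1 ?_
  rw [map_mul, map_inv, map_list_prod, List.map_map, hl, mul_inv_eq_one]
  rfl

end CfsgLib.Known.ScTorus
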