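import Cfsg.Agent.Lib.Known.ScTorus.StFunctor
import Cfsg.Agent.Lib.Known.ScTorus.Conj
import Cfsg.Agent.Lib.Known.ScTorus.Lattice
import Cfsg.Agent.Lib.Known.Homocyclic.Main
import Cfsg.Agent.Lib.Known.RegularTorus
import Cfsg.Agent.Lib.Lie.Rel.StCenter

/-!
# Cyclic self-centralising tori through Steinberg's group

The torus parameters over an extension field give coordinates on the torus of the universal group, and fixed
points there are the points over the smaller field, so no connectedness is needed.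
-/

set_option autoImplicit false
set_option maxHeartbeats 3200000

namespace CfsgLib.Known.ScTorus

open Cfsg.Lie (ChevalleyDatum)
open CfsgLib.Lie.Chev
open CfsgLib.Known.CyclicTorus (cvec castV wMat HasTorus BilOK)
open CfsgLib.Known.Homocyclic (WeylLike)
open scoped Matrix
open Polynomial

variable {D : ChevalleyDatum} {X : Aux}

/-- The properties of the Weyl group element attached to a prime `r`. -/
def TorusOK (D : ChevalleyDatum) (X : Aux) (f : ℤ[X]) (q P r : ℕ) : Prop :=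
  ∀ W : Matrix (Fin D.rank) (Fin D.rank) ℤ, WeylLike D X W → (∃ m, 0 < m ∧ W ^ m = 1) →
    ∀ a : Fin D.rank → ZMod r, a ≠ 0 → a ᵥ* W.map (Int.cast : ℤ → ZMod r) = (q : ZMod r) • a →
      W.charpoly = f ∧ (∀ s : Fin D.nroots, ∑ i : Fin D.rank, a i * (D.cartan i s : ZMod r) ≠ 0) ∧
        ∀ p : ℕ, p.Prime → p ^ 2 ∣ P →
          Nat.card {b : Fin D.rank → ZMod p // b ᵥ* W.map (Int.cast : ℤ → ZMod p) = (q : ZMod p) • b} ≤ p

theorem smul_cast {N : ℕ} {n : ℕ} (a : Fin n → ZMod N) (W : Matrix (Fin n) (Fin n) ℤ) (q : ℕ) :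
    a ᵥ* (W - (q : ℤ) • (1 : Matrix (Fin n) (Fin n) ℤ)).map (Int.cast : ℤ → ZMod N) =
      a ᵥ* W.map (Int.cast : ℤ → ZMod N) - (q : ZMod N) • a := by
  funext j
  simp only [Matrix.vecMul, dotProduct, Pi.sub_apply, Pi.smul_apply, smul_eq_mul, Matrix.map_apply,
    Matrix.sub_apply, Matrix.smul_apply, Matrix.one_apply, Int.cast_sub, Int.cast_mul, mul_sub,
    Finset.sum_sub_distrib, Int.cast_natCast]
  congr 1
  rw [Finset.sum_eq_single j]
  · simp [mul_comm]
  · intro b _ hb; simp [hb]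
  · simp

/-- Vectors modulo `N` killed by a divisor `p` come from vectors modulo `p`. -/
theorem exists_lift_eigen {n N p e : ℕ} [NeZero N] (hp : 0 < p) (he : N = p * e) (a : Fin n → ZMod N)
    (ha : ∀ i, (p : ZMod N) * a i = 0) :
    ∃ b : Fin n → ℕ, (∀ i, a i = ((e * b i : ℕ) : ZMod N)) ∧ ∀ (W : Matrix (Fin n) (Fin n) ℤ) (q : ℕ),
      a ᵥ* W.map (Int.cast : ℤ → ZMod N) = (q : ZMod N) • a →
        (fun i => (b i : ZMod p)) ᵥ* W.map (Int.cast : ℤ → ZMod p) = (q : ZMod p) • fun i => (b i : ZMod p) := by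
  obtain ⟨b, hb⟩ := Homocyclic.exists_natCast_of_mul_eq_zero hp he ha
  refine ⟨b, hb, fun W q h => funext fun j => ?_⟩
  have he0 : e ≠ 0 := fun h0 => by rw [h0, mul_zero] at he; exact NeZero.ne N he
  have h1 := congrFun h j
  simp only [Matrix.vecMul, dotProduct, Matrix.map_apply, Pi.smul_apply, smul_eq_mul, hb] at h1
  have h2 : (((e : ℤ) * ((∑ i, (b i : ℤ) * W i j) - (q : ℤ) * (b j : ℤ)) : ℤ) : ZMod N) = 0 := by
    push_cast
    rw [mul_sub, sub_eq_zero, Finset.mul_sum]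
    refine Eq.trans (Finset.sum_congr rfl fun i _ => ?_) (h1.trans ?_)
    · push_cast; ring
    · push_cast; ring
  rw [ZMod.intCast_zmod_eq_zero_iff_dvd, he, Nat.cast_mul, mul_comm (p : ℤ)] at h2
  have h3 := (ZMod.intCast_zmod_eq_zero_iff_dvd _ p).2
    ((mul_dvd_mul_iff_left (by exact_mod_cast he0 : (e : ℤ) ≠ 0)).1 h2)
  push_cast at h3
  rw [sub_eq_zero] at h3
  simpa [Matrix.vecMul, dotProduct] using h3

/-- A cyclic self-centralising torus of order `P / g`. -/
theorem exists_torus (C : Cert D X) {M U U' V V' : List (List ℤ)} {dd degs : List ℕ}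
    (hM : cmat D = M) (hchk : chkSmith D.rank M U U' V V' dd = true)
    (hp : chkPoly M D.rank (half D) degs = true) (hlen : degs.length = D.rank)
    (hdd : ∀ i : Fin D.rank, dd.getD i 0 ∣ degs.prod) (hSL : SLaced D X) (hconn : Rel.Connected D)
    {L : List (ℕ × ℕ × ℕ × List ℤ)} (hL : chkWits D X L = true) {I : List ℕ}
    (hI : chkEmb D Cfsg.Lie.chevE8 I = true)
    {F : Type*} [Field F] [Fintype F] {K : Type*} [Field K] [Fintype K] [Algebra F K]
    {q n P g r : ℕ} [Fact r.Prime] (hF : Fintype.card F = q) (hK : Fintype.card K = q ^ n) (hn : 0 < n)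
    {f : ℤ[X]} (hP : (f.eval (q : ℤ)).natAbs = P) (hP0 : P ≠ 0) (hPN : P ∣ q ^ n - 1) (hrP : r ∣ P)
    (hrq : ¬ r ∣ q) (hrW : ¬ r ∣ degs.prod) (hrG : ∃ k ∈ degs, r ∣ q ^ k - 1)
    (hgc : Nat.card (Subgroup.center (D.SteinbergGroup F)) = g) (hT : TorusOK D X f q P r) :
    HasTorus D F (P / g) := by
  classical
  have hr : r.Prime := Fact.out
  have hq1 : 1 < q := hF ▸ Fintype.one_lt_card
  obtain ⟨Q, hQ⟩ : ∃ Q, Q = q ^ n := ⟨_, rfl⟩
  obtain ⟨N, hN⟩ : ∃ N, N = Nat.card Kˣ := ⟨_, rfl⟩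
  have hQ1 : 1 < Q := hQ ▸ Nat.one_lt_pow hn.ne' hq1
  have hNQ : N = Q - 1 := by rw [hN, Nat.card_units, Nat.card_eq_fintype_card, hK, hQ]
  have : NeZero N := ⟨by omega⟩
  have hPN' : P ∣ N := by rw [hNQ, hQ]; exact hPN
  have hrN : r ∣ N := hrP.trans hPN'
  have hdeg : ∀ e ∈ degs, ¬ r ∣ e := fun e he h => hrW (h.trans (List.dvd_prod he))
  have hrQ : ¬ r ∣ Q := fun h => hrq (hr.dvd_of_dvd_pow (hQ ▸ h))
  -- the torus of `G(K)` contains a Sylow subgroup
  have hQord : 1 = orderOf (Q : ZMod r) := by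
    have h : ((Q - 1 : ℕ) : ZMod r) = 0 := (ZMod.natCast_eq_zero_iff _ _).2 (hNQ ▸ hrN)
    rw [Nat.cast_sub hQ1.le, Nat.cast_one, sub_eq_zero] at h
    rw [h, orderOf_one]
  have hvalK : padicValNat r (Nat.card ↥(D.group K)) = padicValNat r N * D.rank := by
    rw [Homocyclic.padicValNat_card_group C hM hchk hp hdd hrW K (hK.trans hQ.symm) hrQ, List.map_congr_left
      fun e he => Homocyclic.padicValNat_pow_sub_one hQ1 hQord one_pos (hdeg e he),
      Homocyclic.sum_map_ite_eq, pow_one, ← hNQ, List.filter_eq_self.2 fun e _ => by simp, hlen]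
  have hvalH : padicValNat r (Nat.card ↥(chevRel C K).HS) = padicValNat r N * D.rank := by
    have h := card_HS_mul C K hM hchk
    rw [hK, ← hQ] at h
    have h2 := congrArg (padicValNat r) h
    rw [padicValNat.mul (fun h0 => by rw [h0, zero_mul] at h; exact pow_ne_zero _ (by omega) h.symm)
      Nat.card_pos.ne', Homocyclic.padicValNat_prod_gcd hdd hrW, zero_add, padicValNat.pow, ← hNQ, mul_comm] at h2
    exact h2
  obtain ⟨S0, -⟩ : ∃ S0 : Sylow r ↥(chevRel C K).HS, True := ⟨Classical.arbitrary _, trivial⟩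
  obtain ⟨S1, hS1⟩ : ∃ S1 : Sylow r ↥(D.group K),
      (S1 : Subgroup ↥(D.group K)) = (S0 : Subgroup _).map (chevRel C K).HS.subtype := by
    refine ⟨Sylow.ofCard ((S0 : Subgroup _).map (chevRel C K).HS.subtype) ?_, rfl⟩
    rw [Subgroup.card_map_of_injective (Subgroup.subtype_injective _), S0.card_eq_multiplicity]
    refine congrArg (r ^ ·) ?_
    rw [Nat.factorization_def _ hr, Nat.factorization_def _ hr, hvalH, hvalK]
  -- an element of order `r`
  obtain ⟨x, hx⟩ : ∃ x : ↥(D.group F), orderOf x = r := by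
    refine exists_prime_orderOf_dvd_card' r ?_
    have h := card_group C F hM hchk hp hF
    have hcop : ¬ r ∣ ∏ i : Fin D.rank, Nat.gcd (q - 1) (dd.getD i 0) := fun hd => by
      obtain ⟨i, -, hi⟩ := (Prime.dvd_finsetProd_iff hr.prime _).1 hd
      exact hrW ((hi.trans (Nat.gcd_dvd_right _ _)).trans (hdd i))
    refine (hr.dvd_mul.1 (h ▸ dvd_mul_of_dvd_right ?_ _)).resolve_left hcop
    obtain ⟨k, hk, hrk⟩ := hrG
    exact hrk.trans (List.dvd_prod (List.mem_map_of_mem hk))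
  obtain ⟨ι, hι⟩ : ∃ ι : F →+* K, ι = algebraMap F K := ⟨_, rfl⟩
  obtain ⟨σ, hσ⟩ : ∃ σ : K ≃+* K, ∀ a, σ a = a ^ q := by
    obtain ⟨p, hc⟩ := CharP.exists F
    have := hc
    obtain ⟨a, hp', hqp⟩ := FiniteField.card F p
    have : Fact p.Prime := ⟨hp'⟩
    have : CharP K p := charP_of_injective_algebraMap (algebraMap F K).injective p
    have hb : Function.Bijective (iterateFrobenius K p a) :=
      Finite.injective_iff_bijective.1 (RingHom.injective _)
    exact ⟨RingEquiv.ofBijective _ hb, fun b => by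
      rw [RingEquiv.ofBijective_apply, iterateFrobenius_def, ← hF, hqp]⟩
  have hσι : ∀ c, σ (ι c) = ι c := fun c => by rw [hσ, ← map_pow, ← hF, FiniteField.pow_card]
  have hj : ∀ a : K, σ a = a ↔ a ∈ ι.range := by
    refine fun a => ⟨fun ha => ?_, fun ⟨c, hc⟩ => hc ▸ hσι c⟩
    rcases eq_or_ne a 0 with rfl | ha0
    · exact zero_mem _
    · obtain ⟨c, hc⟩ := PSLTori.exists_algebraMap_eq (F := F) a (mul_right_cancel₀ ha0 (by
        rw [hF, ← pow_succ, Nat.sub_add_cancel hq1.le, ← hσ, ha, one_mul]))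
      exact ⟨c, by rw [hι, hc]⟩
  -- the universal group
  have hE8 := chevRel_torusHom_injective certE8 K cmat_E8 smithE8 (by decide +kernel)
  have hinjK : Function.Injective (stRel C K hL).torusHom :=
    stRel_torusHom_injective (chevRel certE8 K) C hI hL hE8
  obtain ⟨θ, hθ⟩ : ∃ θ, θ = stTheta (D := D) C K := ⟨_, rfl⟩
  obtain ⟨θF, hθF⟩ : ∃ θ, θ = stTheta (D := D) C F := ⟨_, rfl⟩
  obtain ⟨J, hJ⟩ : ∃ J, J = stMap C hL ι := ⟨_, rfl⟩
  obtain ⟨φ, hφ⟩ : ∃ φ, φ = stMap C hL σ.toRingHom := ⟨_, rfl⟩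
  have hJinj : Function.Injective J := hJ ▸ stMap_injective C hL ι hinjK
  have hφJ : ∀ g, φ (J g) = J g := fun g => by
    rw [hφ, hJ, stMap_comp]
    exact congrArg (fun k => stMap C hL k g) (RingHom.ext fun a => hσι a)
  have hθJ : ∀ g, θ (J g) = ChevFixed.groupMap D ι (θF g) := fun g => by
    rw [hθ, hθF, hJ]; exact stTheta_stMap C hL ι g
  have hθker : ∀ g, θ g ∈ (chevRel C K).HS → g ∈ (stRel C K hL).HS := by
    intro g hg
    obtain ⟨c, hc⟩ := (chevRel C K).torusHom_surjective ⟨θ g, hg⟩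
    have h1 : θ g = θ ((stRel C K hL).torusHom c : D.SteinbergGroup K) := by
      rw [hθ, stTheta_torusHom, hc, ← hθ]
    have h2 : g * (((stRel C K hL).torusHom c : D.SteinbergGroup K))⁻¹ ∈ (stRel C K hL).HS :=
      (stRel C K hL).ker_le_HS (MonoidHom.mem_ker.1 (by
        rw [ker_stRel, MonoidHom.mem_ker, ← hθ, map_mul, map_inv, h1, mul_inv_cancel]))
    have h3 := mul_mem h2 ((stRel C K hL).torusHom c).2
    rwa [inv_mul_cancel_right] at h3
  obtain ⟨xh, hxh⟩ := stTheta_surjective C F x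
  rw [← hθF] at hxh
  obtain ⟨P1, hP1⟩ := (IsPGroup.of_card (n := 1) (p := r) (G := Subgroup.zpowers (θ (J xh)))
    (by rw [Nat.card_zpowers, hθJ, hxh, orderOf_injective _ (ChevFixed.groupMap_injective ι), hx, pow_one])).exists_le_sylow
  obtain ⟨Y0, hY⟩ := MulAction.exists_smul_eq ↥(D.group K) P1 S1
  obtain ⟨Y, hY0⟩ := stTheta_surjective C K Y0
  rw [← hθ] at hY0
  have hsH : Y * J xh * Y⁻¹ ∈ (stRel C K hL).HS := by
    refine hθker _ ?_
    rw [map_mul, map_mul, map_inv, hY0]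
    have h1 : Y0 * θ (J xh) * Y0⁻¹ ∈ (S1 : Subgroup ↥(D.group K)) := by
      rw [← hY, Sylow.coe_subgroup_smul, Subgroup.mem_pointwise_smul_iff_inv_smul_mem, MulAut.smul_def,
        ← map_inv, MulAut.conj_apply]
      simpa [mul_assoc] using hP1 (Subgroup.mem_zpowers (θ (J xh)))
    rw [hS1] at h1
    exact Subgroup.map_subtype_le _ h1
  -- coordinates
  obtain ⟨lgE, -⟩ : ∃ e : Additive Kˣ ≃+ ZMod N, True :=
    ⟨hN ▸ (MulEquiv.toAdditive (zmodCyclicMulEquiv (G := Kˣ) inferInstance).symm).trans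
      (AddEquiv.additiveMultiplicative _), trivial⟩
  obtain ⟨lg, hlg⟩ : ∃ lg : Kˣ → ZMod N, ∀ u, lg u = lgE (Additive.ofMul u) := ⟨_, fun _ => rfl⟩
  have hlg_mul : ∀ u w, lg (u * w) = lg u + lg w := fun u w => by rw [hlg, hlg, hlg, ofMul_mul, map_add]
  have hlg_zpow : ∀ (u : Kˣ) (z : ℤ), lg (u ^ z) = (z : ZMod N) * lg u := fun u z => by
    rw [hlg, hlg, ofMul_zpow, map_zsmul, zsmul_eq_mul]
  have hlg_pow : ∀ (u : Kˣ) (z : ℕ), lg (u ^ z) = (z : ZMod N) * lg u := fun u z => by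
    rw [← zpow_natCast, hlg_zpow, Int.cast_natCast]
  have hlg_prod : ∀ f : Fin D.rank → Kˣ, lg (∏ i, f i) = ∑ i, lg (f i) := fun f => by
    rw [hlg, ofMul_prod, map_sum]
    exact Finset.sum_congr rfl fun i _ => (hlg _).symm
  have hlg_inj : Function.Injective lg := fun u w h => by
    rw [hlg, hlg] at h
    exact Additive.ofMul.injective (lgE.injective h)
  have hlg_one : lg 1 = 0 := by rw [hlg, ofMul_one, map_zero]
  obtain ⟨co, hco⟩ : ∃ co : (Fin D.rank → Kˣ) → Fin D.rank → ZMod N, ∀ c i, co c i = lg (c i) := ⟨_, fun _ _ => rfl⟩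
  have hco_inj : Function.Injective co := fun c c' h => funext fun i => hlg_inj (by rw [← hco, ← hco, h])
  have hco_surj : Function.Surjective co := fun a => ⟨fun i => Additive.toMul (lgE.symm (a i)), funext fun i => by
    rw [hco, hlg, ofMul_toMul, AddEquiv.apply_symm_apply]⟩
  have hco_mul : ∀ c c', co (c * c') = co c + co c' := fun c c' => funext fun i => by
    simp only [Pi.add_apply, hco, Pi.mul_apply, hlg_mul]
  have hco_pow : ∀ c (z : ℕ), co (c ^ z) = (z : ZMod N) • co c := fun c z => funext fun i => by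
    simp only [Pi.smul_apply, smul_eq_mul, hco, Pi.pow_apply, hlg_pow]
  have hco_one : co 1 = 0 := funext fun i => by simp [hco, hlg_one]
  obtain ⟨T, hTdef⟩ : ∃ T : (Fin D.rank → Kˣ) →* D.SteinbergGroup K,
      T = ((stRel C K hL).HS.subtype).comp (stRel C K hL).torusHom := ⟨_, rfl⟩
  have hTmem : ∀ c, T c ∈ (stRel C K hL).HS := fun c => by rw [hTdef]; exact SetLike.coe_mem _
  have hTsurj : ∀ g ∈ (stRel C K hL).HS, ∃ c, T c = g := fun g hg => by
    obtain ⟨c, hc⟩ := (stRel C K hL).torusHom_surjective ⟨g, hg⟩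
    exact ⟨c, by rw [hTdef, MonoidHom.comp_apply, hc]; rfl⟩
  have hTinj : Function.Injective T := hTdef ▸ (Subgroup.subtype_injective _).comp hinjK
  have hφT : ∀ c, φ (T c) = T (c ^ q) := fun c => by
    rw [hφ, hTdef, MonoidHom.comp_apply, MonoidHom.comp_apply]
    refine (stMap_torusHom C hL σ.toRingHom c).trans ?_
    refine congrArg (fun c => (((stRel C K hL).torusHom c : (stRel C K hL).HS) : D.SteinbergGroup K))
      (funext fun i => Units.ext ?_)
    simp [hσ]
  obtain ⟨Wof, hWof⟩ : ∃ Wof : (stRel C K hL).NS → Matrix (Fin D.rank) (Fin D.rank) ℤ,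
      ∀ m, Wof m = wMat (stRel C K hL) ((stRel C K hL).nsPerm m) := ⟨_, fun _ => rfl⟩
  have htw : ∀ (m : (stRel C K hL).NS) c, (m : D.SteinbergGroup K) * T c * (m : D.SteinbergGroup K)⁻¹ = φ (T c) ↔
      co c ᵥ* (Wof m).map (Int.cast : ℤ → ZMod N) = (q : ZMod N) • co c := by
    intro m c
    have h : (m : D.SteinbergGroup K) * T c * (m : D.SteinbergGroup K)⁻¹ = T (powMat Kˣ (Wof m) c) := by
      rw [hTdef, MonoidHom.comp_apply, MonoidHom.comp_apply, hWof]
      exact conj_torusHom (stRel C K hL) hSL m c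
    rw [h, hφT, hTinj.eq_iff, ← hco_inj.eq_iff, hco_pow]
    refine Eq.congr_left (funext fun j => ?_)
    rw [hco, powMat_apply, hlg_prod]
    simp only [Matrix.vecMul, dotProduct, Matrix.map_apply, hlg_zpow, hco]
    exact Finset.sum_congr rfl fun i _ => mul_comm _ _
  -- consequences of an eigenvector of order `r`
  obtain ⟨e, he⟩ := hrN
  have hkey : ∀ (m : (stRel C K hL).NS) c, co c ≠ 0 → (∀ i, (r : ZMod N) * co c i = 0) →
      co c ᵥ* (Wof m).map (Int.cast : ℤ → ZMod N) = (q : ZMod N) • co c →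
      (Wof m).charpoly = f ∧ (∀ g, g * θ (T c) = θ (T c) * g → g ∈ (chevRel C K).HS) ∧
      ∀ p : ℕ, p.Prime → p ^ 2 ∣ P → Nat.card {b : Fin D.rank → ZMod p //
          b ᵥ* (Wof m).map (Int.cast : ℤ → ZMod p) = (q : ZMod p) • b} ≤ p := by
    intro m c hc0 hrc heig
    obtain ⟨b, hb, hbeig⟩ := exists_lift_eigen hr.pos he (co c) hrc
    have e0 : 0 < e := Nat.pos_of_ne_zero fun h => by rw [h, mul_zero] at he; exact NeZero.ne N he
    have hb0 : (fun i => (b i : ZMod r)) ≠ 0 := by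
      intro h
      refine hc0 (funext fun i => ?_)
      obtain ⟨w, hw⟩ := (ZMod.natCast_eq_zero_iff _ _).1 (congrFun h i)
      rw [hb i, hw, ← mul_assoc, mul_comm e, ← he, Nat.cast_mul, ZMod.natCast_self, zero_mul, Pi.zero_apply]
    have hfin : ∃ o, 0 < o ∧ Wof m ^ o = 1 :=
      ⟨_, orderOf_pos ((stRel C K hL).nsPerm m), by
        rw [hWof, ← CyclicTorus.wMat_pow (stRel C K hL) ((stRel C K hL).isLin_nsPerm _), pow_orderOf_eq_one,
          CyclicTorus.wMat_one]⟩
    obtain ⟨hf, hreg, hsoc⟩ := hT (Wof m) (hWof m ▸ Homocyclic.weylLike (stRel C K hL) m) hfin _ hb0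
      (hbeig _ _ heig)
    refine ⟨hf, ?_, hsoc⟩
    -- regularity in the Chevalley group
    obtain ⟨R, hR⟩ : ∃ R, R = chevRel C K := ⟨_, rfl⟩
    rw [← hR]
    have hθT : θ (T c) = ((R.torusHom c : R.HS) : ↥(D.group K)) := by
      rw [hθ, hTdef, hR]; exact stTheta_torusHom C K hL c
    obtain ⟨val, hval⟩ : ∃ val : Fin D.nroots → Kˣ, ∀ s, val s = ∏ i : Fin D.rank, c i ^ D.cartan i s :=
      ⟨_, fun _ => rfl⟩
    obtain ⟨v, hv⟩ : ∃ v : Fin D.nroots → ZMod r, ∀ s, v s = ∑ i : Fin D.rank, (b i : ZMod r) * (D.cartan i s : ZMod r) :=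
      ⟨_, fun _ => rfl⟩
    have hlgval : ∀ s, lg (val s) = (((e : ℤ) * ∑ i : Fin D.rank, (b i : ℤ) * D.cartan i s : ℤ) : ZMod N) := by
      intro s
      rw [hval, hlg_prod]
      simp only [hlg_zpow, ← hco, hb]
      push_cast
      rw [Finset.mul_sum]
      exact Finset.sum_congr rfl fun i _ => by ring
    have hvv : ∀ s s', val s = val s' → v s = v s' := by
      intro s s' h
      have h1 := congrArg lg h
      rw [hlgval, hlgval, ZMod.intCast_eq_intCast_iff_dvd_sub, he, Nat.cast_mul, mul_comm (r : ℤ), ← mul_sub] at h1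
      have h2 := (mul_dvd_mul_iff_left (by exact_mod_cast e0.ne' : (e : ℤ) ≠ 0)).1 h1
      rw [← ZMod.intCast_eq_intCast_iff_dvd_sub] at h2
      simpa [hv] using h2
    have hv1 : ∀ s, val s ≠ 1 := by
      intro s h
      have h1 := congrArg lg h
      rw [hlgval, hlg_one, ZMod.intCast_zmod_eq_zero_iff_dvd, he, Nat.cast_mul, mul_comm (r : ℤ)] at h1
      have h2 := (ZMod.intCast_zmod_eq_zero_iff_dvd _ r).2
        ((mul_dvd_mul_iff_left (by exact_mod_cast e0.ne' : (e : ℤ) ≠ 0)).1 h1)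
      exact hreg s (by simpa using h2)
    intro g hg
    rw [hθT] at hg
    refine RegularTorus.mem_HS_of_commute' R (R.torusHom c).2 (TrialityTorus.isMon_torusHom R c)
      (fun s h => hv1 s (Units.ext (by rw [hval]; exact h))) (fun w hw => ?_) hg
    obtain ⟨ρ, hρ⟩ : ∃ ρ, ρ = R.nsPerm w := ⟨_, rfl⟩
    have hlin : R.IsLin ρ := hρ ▸ R.isLin_nsPerm w
    obtain ⟨o, ho⟩ : ∃ o, o = orderOf ρ := ⟨_, rfl⟩
    have hro : ¬ r ∣ o := by
      intro hro
      subst hR
      have h1 : o ∣ Nat.card (chevRel C K).WQ := by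
        rw [ho, hρ, ← (chevRel C K).qact_qmk]
        exact (orderOf_map_dvd _ _).trans (orderOf_dvd_natCard _)
      have h2 : Nat.card (chevRel C K).WQ * Nat.card ↥(chevRel C K).HS = Nat.card ↥(chevRel C K).NS := by
        rw [← Nat.card_congr (Subgroup.subgroupOfEquivOfLe (chevRel C K).HS_le_NS).toEquiv]
        exact (Subgroup.card_eq_card_quotient_mul_card_subgroup _).symm
      have h3 : r ^ (padicValNat r N * D.rank + 1) ∣ Nat.card ↥(D.group K) := by
        refine Dvd.dvd.trans ?_ (h2 ▸ Subgroup.card_subgroup_dvd_card (chevRel C K).NS)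
        rw [pow_succ', ← hvalH]
        exact mul_dvd_mul (hro.trans h1) pow_padicValNat_dvd
      rw [← hvalK] at h3
      exact pow_succ_padicValNat_not_dvd Nat.card_pos.ne' h3
    -- the simple root values determine the others
    obtain ⟨u, hu⟩ : ∃ u : Fin D.rank → ℤ, ∀ j, u j = ∑ i : Fin D.rank, (b i : ℤ) * D.cartan i (D.simple j) :=
      ⟨_, fun _ => rfl⟩
    have hcv : ∀ s : Fin D.nroots, ((cvec D X s ⬝ᵥ u : ℤ) : ZMod r) = v s := by
      intro s
      rw [hv]
      simp only [dotProduct, hu, cvec, Finset.mul_sum]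
      rw [Int.cast_sum]
      simp only [Int.cast_sum]
      rw [Finset.sum_comm]
      refine Finset.sum_congr rfl fun i _ => ?_
      rw [C.cartan_eq s.2 i.2, Finset.sum_range, Int.cast_sum, Finset.mul_sum]
      exact Finset.sum_congr rfl fun j _ => by push_cast; ring
    have hwk : ∀ (k : ℕ) (s : Fin D.nroots), v ((ρ ^ k) s) = v s := by
      intro k
      induction k with
      | zero => intro s; rw [pow_zero, Equiv.Perm.one_apply]
      | succ k ih =>
        intro s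
        rw [pow_succ, Equiv.Perm.mul_apply, ih, hρ]
        exact hvv _ _ (Units.ext (by rw [hval, hval]; exact hw s))
    obtain ⟨y, hy⟩ : ∃ y : Fin D.rank → ℤ, y = ∑ k ∈ Finset.range o, wMat R ρ ^ k *ᵥ u := ⟨_, rfl⟩
    refine CyclicTorus.mem_HS_of_fix_functional R y (fun s h => ?_) w fun s => ?_
    · have h1 : ((cvec D X s ⬝ᵥ y : ℤ) : ZMod r) = (o : ZMod r) * v s := by
        rw [hy, dotProduct_sum, Int.cast_sum, Finset.sum_congr rfl fun k _ => ?_, Finset.sum_const, Finset.card_range,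
          nsmul_eq_mul]
        rw [Matrix.dotProduct_mulVec, ← CyclicTorus.wMat_pow R hlin,
          CyclicTorus.vecMul_wMat R (CyclicTorus.isLin_pow R hlin k), hcv, hwk]
      rw [h, Int.cast_zero] at h1
      rcases mul_eq_zero.1 h1.symm with h2 | h2
      · exact hro ((ZMod.natCast_eq_zero_iff _ _).1 h2)
      · exact hreg s ((hv s).symm.trans h2)
    · have hWy : wMat R ρ *ᵥ y = y := by
        rw [hy, Matrix.mulVec_sum]
        simp only [Matrix.mulVec_mulVec, ← pow_succ']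
        have h0 := Finset.sum_range_succ' (fun i => wMat R ρ ^ i *ᵥ u) o
        rw [Finset.sum_range_succ] at h0
        have ho1 : wMat R ρ ^ o = 1 := by
          rw [← CyclicTorus.wMat_pow R hlin, ho, pow_orderOf_eq_one, CyclicTorus.wMat_one]
        rw [ho1, pow_zero] at h0
        exact (add_right_cancel h0).symm
      rw [← hρ, ← CyclicTorus.vecMul_wMat R hlin, ← Matrix.dotProduct_mulVec, hWy]
  -- the twisting element
  obtain ⟨cs, hcs⟩ := hTsurj _ hsH
  -- the `r`-part of a lift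
  obtain ⟨cs', hcs'⟩ : ∃ cs' : Fin D.rank → Kˣ, co cs' ≠ 0 ∧ (∀ i, (r : ZMod N) * co cs' i = 0) ∧
      ∃ k : ℕ, cs' = cs ^ k := by
    obtain ⟨o, ho⟩ : ∃ o, o = orderOf cs := ⟨_, rfl⟩
    have hro : r ∣ o := by
      have h1 : orderOf (θ (T cs)) ∣ o := ho ▸ (orderOf_map_dvd θ _).trans (orderOf_map_dvd T cs)
      rw [hcs] at h1
      rw [← hx]
      refine Dvd.dvd.trans ?_ h1
      rw [map_mul, map_mul, map_inv, hθJ, hxh]
      refine dvd_of_eq ?_
      rw [← orderOf_injective _ (ChevFixed.groupMap_injective ι) x]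
      exact ((orderOf_injective (MulAut.conj (θ Y)).toMonoidHom (MulAut.conj (θ Y)).injective
        (ChevFixed.groupMap D ι x)).symm.trans (by simp [MulAut.conj_apply]))
    obtain ⟨k, hk⟩ := hro
    refine ⟨cs ^ k, fun h => ?_, fun i => ?_, k, rfl⟩
    · have h1 : cs ^ k = 1 := hco_inj (h.trans hco_one.symm)
      have h2 := orderOf_dvd_of_pow_eq_one h1
      rw [← ho, hk] at h2
      have hk0 : 0 < k := Nat.pos_of_ne_zero fun h0 => by
        rw [h0, mul_zero] at hk; rw [hk] at ho; exact (orderOf_pos cs).ne ho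
      have h3 := Nat.le_of_dvd hk0 h2
      have h4 := Nat.mul_le_mul_right k hr.two_le
      omega
    · have h := congrFun (hco_pow (cs ^ k) r) i
      rw [← pow_mul, mul_comm, ← hk, ho, pow_orderOf_eq_one, hco_one] at h
      simpa using h.symm
  obtain ⟨hcs0, hcsr, k, hk⟩ := hcs'
  have hs' : T cs' = Y * J (xh ^ k) * Y⁻¹ := by rw [hk, map_pow, hcs, conj_pow, map_pow]
  have hg : φ Y * Y⁻¹ * T cs' * (φ Y * Y⁻¹)⁻¹ = φ (T cs') := by
    rw [hs', map_mul, map_mul, map_inv, hφJ]; group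
  obtain ⟨m0, hm0, hm0'⟩ := (stRel C K hL).exists_NS_conj (g := φ Y * Y⁻¹) (hTmem cs')
    (h₂ := φ (T cs')) (by rw [hφT]; exact hTmem _) (by rw [← hg]; group)
  have hgH : m0⁻¹ * (φ Y * Y⁻¹) ∈ (stRel C K hL).HS := by
    refine hθker _ ((hkey ⟨m0, hm0⟩ cs' hcs0 hcsr ((htw ⟨m0, hm0⟩ cs').1 hm0')).2.1 _ ?_)
    have h := hg.trans hm0'.symm
    rw [← map_mul, ← map_mul]
    generalize φ Y * Y⁻¹ = g at h ⊢
    have h5 : g * T cs' = m0 * T cs' * m0⁻¹ * g := by rw [← h]; group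
    rw [mul_assoc m0⁻¹, h5]; group
  obtain ⟨m, hm⟩ : ∃ m : (stRel C K hL).NS, (m : D.SteinbergGroup K) = φ Y * Y⁻¹ :=
    ⟨⟨_, by simpa [mul_assoc] using mul_mem hm0 ((stRel C K hL).HS_le_NS hgH)⟩, rfl⟩
  obtain ⟨hf, hreg, hsoc⟩ := hkey m cs' hcs0 hcsr ((htw m cs').1 (by rw [hm, hg]))
  -- the torus in the universal group
  obtain ⟨W, hW⟩ : ∃ W, W = Wof m := ⟨_, rfl⟩
  obtain ⟨A, hA⟩ : ∃ A, A = W - (q : ℤ) • (1 : Matrix (Fin D.rank) (Fin D.rank) ℤ) := ⟨_, rfl⟩
  have hAdet : A.det.natAbs = P := by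
    rw [← hP, ← hf, ← hW, Matrix.eval_charpoly, show A = -(Matrix.scalar (Fin D.rank) (q : ℤ) - W) from by
      rw [hA, neg_sub, Matrix.scalar_apply, ← Matrix.smul_one_eq_diagonal], Matrix.det_neg, Int.natAbs_mul,
      Int.natAbs_pow, Int.natAbs_neg, Int.natAbs_one, one_pow, one_mul]
  have hAmem : ∀ c, co c ∈ leftKer N A ↔ φ (Y⁻¹ * T c * Y) = Y⁻¹ * T c * Y := by
    intro c
    rw [mem_leftKer, hA, smul_cast, sub_eq_zero, hW, ← htw, hm, map_mul, map_mul, map_inv]
    constructor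
    · intro h; rw [← h]; group
    · intro h
      have h2 := congrArg (fun z => φ Y * z * (φ Y)⁻¹) h
      simp only [← mul_assoc, mul_inv_cancel, one_mul, mul_inv_cancel_right] at h2
      rw [h2]; group
  obtain ⟨A0, hA0⟩ : ∃ A0 : Subgroup (Fin D.rank → Kˣ), ∀ c, c ∈ A0 ↔ co c ∈ leftKer N A :=
    ⟨{ carrier := {c | co c ∈ leftKer N A}
       mul_mem' := fun {a b} ha hb => by
         show co (a * b) ∈ leftKer N A
         rw [hco_mul]; exact add_mem ha hb
       one_mem' := by show co 1 ∈ leftKer N A; rw [hco_one]; exact zero_mem _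
       inv_mem' := fun {a} ha => by
         show co a⁻¹ ∈ leftKer N A
         have h := hco_mul a⁻¹ a
         rw [inv_mul_cancel, hco_one] at h
         rw [eq_neg_of_add_eq_zero_left h.symm]
         exact neg_mem ha }, fun _ => Iff.rfl⟩
  obtain ⟨eA⟩ : Nonempty (↥A0 ≃ ↥(leftKer N A)) := ⟨Equiv.ofBijective (fun c => ⟨co c.1, (hA0 _).1 c.2⟩)
    ⟨fun c c' h => Subtype.ext (hco_inj (congrArg Subtype.val h)), fun a => by
      obtain ⟨c, hc⟩ := hco_surj a
      exact ⟨⟨c, (hA0 _).2 (hc ▸ a.2)⟩, Subtype.ext hc⟩⟩⟩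
  have hA0card : Nat.card A0 = P := by
    rw [Nat.card_congr eA, card_leftKer N A (fun h => hP0 (by rw [← hAdet, h]; rfl))
      (Int.natAbs_dvd.1 (by rw [hAdet]; exact_mod_cast hPN')), hAdet]
  have hcyc : IsCyclic A0 := by
    refine isCyclic_of_socle fun p hp => ?_
    have : Fact p.Prime := ⟨hp⟩
    by_cases hp2 : p ^ 2 ∣ P
    · obtain ⟨e', he'⟩ := ((dvd_pow_self p (two_ne_zero)).trans hp2).trans hPN'
      have hsel : ∀ c : {c : ↥A0 // c ^ p = 1}, ∃ b : Fin D.rank → ℕ,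
          (∀ i, co c.1.1 i = ((e' * b i : ℕ) : ZMod N)) ∧
          (fun i => (b i : ZMod p)) ᵥ* W.map (Int.cast : ℤ → ZMod p) = (q : ZMod p) • fun i => (b i : ZMod p) := by
        intro c
        have hpc : ∀ i, (p : ZMod N) * co c.1.1 i = 0 := fun i => by
          have h := congrFun (hco_pow c.1.1 p) i
          rw [← Subgroup.coe_pow, c.2, OneMemClass.coe_one, hco_one] at h
          simpa using h.symm
        obtain ⟨b, hb, hbe⟩ := exists_lift_eigen hp.pos he' _ hpc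
        have hmem := (hA0 _).1 c.1.2
        rw [mem_leftKer, hA, smul_cast, sub_eq_zero] at hmem
        exact ⟨b, hb, hbe W q hmem⟩
      choose bof hbof hbe using hsel
      refine le_trans (Nat.card_le_card_of_injective (fun c => (⟨fun i => (bof c i : ZMod p), hbe c⟩ :
        {b : Fin D.rank → ZMod p // b ᵥ* W.map (Int.cast : ℤ → ZMod p) = (q : ZMod p) • b}))
        fun c c' h => ?_) (hW ▸ hsoc p hp hp2)
      have h1 := congrArg Subtype.val h
      refine Subtype.ext (Subtype.ext (hco_inj (funext fun j => ?_)))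
      rw [hbof, hbof, ZMod.natCast_eq_natCast_iff', he', mul_comm p e', Nat.mul_mod_mul_left, Nat.mul_mod_mul_left]
      exact congrArg (e' * ·) ((ZMod.natCast_eq_natCast_iff' _ _ _).1 (congrFun h1 j))
    · obtain ⟨S, hS⟩ : ∃ S : Subgroup ↥A0, ∀ c, c ∈ S ↔ c ^ p = 1 :=
        ⟨(powMonoidHom p : ↥A0 →* ↥A0).ker, fun c => MonoidHom.mem_ker⟩
      rw [Nat.card_congr (Equiv.subtypeEquivRight fun c => (hS c).symm)]
      obtain ⟨k, hk⟩ := (IsPGroup.iff_card (p := p) (G := S)).1 fun c => ⟨1, by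
        rw [pow_one]; exact Subtype.ext ((hS _).1 c.2)⟩
      rw [hk]
      rcases Nat.lt_or_ge k 2 with h | h
      · exact (Nat.pow_le_pow_right hp.pos (Nat.lt_succ_iff.1 h)).trans (pow_one p).le
      · exact absurd (((Nat.pow_dvd_pow p h).trans (hk ▸ Subgroup.card_subgroup_dvd_card S)).trans
          (dvd_of_eq hA0card)) hp2
  -- down to the Chevalley group
  obtain ⟨emb, hemb⟩ : ∃ emb : ↥A0 →* D.SteinbergGroup F, ∀ c, J (emb c) = Y⁻¹ * T c.1 * Y := by
    have hpre : ∀ c : ↥A0, ∃ t, J t = Y⁻¹ * T c.1 * Y := fun c => by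
      have h := eq_range_of_fixed C hL σ ι hj hinjK (hφ ▸ (hAmem c.1).1 ((hA0 _).1 c.2))
      exact hJ ▸ h
    choose t ht using hpre
    refine ⟨MonoidHom.mk' t fun a b => hJinj ?_, ht⟩
    rw [map_mul, ht, ht, ht, Subgroup.coe_mul, map_mul]; group
  have hemb_inj : Function.Injective emb := fun a b h => by
    have h1 := congrArg J h
    rw [hemb, hemb, mul_left_inj, mul_right_inj] at h1
    exact Subtype.ext (hTinj h1)
  obtain ⟨Hh, hHh⟩ : ∃ Hh, Hh = emb.range := ⟨_, rfl⟩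
  obtain ⟨H, hH⟩ : ∃ H, H = Hh.map θF := ⟨_, rfl⟩
  have hHmem : ∀ t, Y * J t * Y⁻¹ ∈ (stRel C K hL).HS → t ∈ Hh := by
    intro t ht
    obtain ⟨c, hc⟩ := hTsurj _ ht
    have hcA : c ∈ A0 := by
      rw [hA0, hAmem, show Y⁻¹ * T c * Y = J t by rw [hc]; group, hφJ]
    rw [hHh]
    refine ⟨⟨c, hcA⟩, hJinj ?_⟩
    rw [hemb]
    show Y⁻¹ * T c * Y = J t
    rw [hc]; group
  have hker : θF.ker ≤ Hh := by
    intro z hz
    refine hHmem z (hθker _ ?_)
    rw [map_mul, map_mul, map_inv, hθJ, MonoidHom.mem_ker.1 hz, map_one, mul_one, mul_inv_cancel]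
    exact one_mem _
  have hkc : Nat.card θF.ker = g := by rw [hθF, ← center_stGroup C F hL hconn, hgc]
  have hHhcard : Nat.card Hh = P := by
    rw [hHh, Nat.card_congr (MonoidHom.ofInjective hemb_inj).symm.toEquiv, hA0card]
  have hcardH : Nat.card H = P / g := by
    have h1 := Subgroup.card_eq_card_quotient_mul_card_subgroup (θF.comp Hh.subtype).ker
    have h2 : Nat.card ↥(θF.comp Hh.subtype).ker = g := by
      rw [← hkc]
      exact Nat.card_congr
        { toFun := fun z => ⟨z.1.1, MonoidHom.mem_ker.2 (MonoidHom.mem_ker.1 z.2)⟩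
          invFun := fun z => ⟨⟨z.1, hker z.2⟩, MonoidHom.mem_ker.2 (MonoidHom.mem_ker.1 z.2)⟩
          left_inv := fun _ => rfl
          right_inv := fun _ => rfl }
    rw [Nat.card_congr (QuotientGroup.quotientKerEquivRange _).toEquiv, MonoidHom.range_comp, Subgroup.range_subtype, ← hH, h2,
      hHhcard] at h1
    have hg0 : 0 < g := hgc ▸ (by
      have : Finite (D.SteinbergGroup F) := (stRel C F hL).Finite_of_field
      exact Nat.card_pos)
    rw [h1, Nat.mul_div_cancel _ hg0]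
  have hcycH : IsCyclic H := by
    obtain ⟨f', hf'⟩ : ∃ f' : ↥A0 →* ↥H, Function.Surjective f' := by
      refine ⟨(θF.comp emb).codRestrict H (fun c => ?_), ?_⟩
      · rw [hH, hHh]; exact ⟨_, ⟨c, rfl⟩, rfl⟩
      · rintro ⟨z, hz⟩
        rw [hH, hHh] at hz
        obtain ⟨_, ⟨c, rfl⟩, rfl⟩ := hz
        exact ⟨c, rfl⟩
    exact isCyclic_of_surjective f' hf'
  refine ⟨H, hcycH, hcardH, le_antisymm ?_ ?_⟩
  · intro z hz
    obtain ⟨zh, hzh⟩ := stTheta_surjective C F z
    rw [← hθF] at hzh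
    have hcA : cs' ∈ A0 := by
      rw [hA0, hAmem, hs']
      rw [show Y⁻¹ * (Y * J (xh ^ k) * Y⁻¹) * Y = J (xh ^ k) by group, hφJ]
    have hxH : θF (xh ^ k) ∈ H := by
      rw [hH]
      exact Subgroup.mem_map_of_mem θF (hHh ▸ ⟨⟨cs', hcA⟩, hJinj (by rw [hemb, hs']; group)⟩)
    have hcomm := Subgroup.mem_centralizer_iff.1 hz _ hxH
    rw [hH, ← hzh]
    refine Subgroup.mem_map_of_mem θF (hHmem zh (hθker _ (hreg _ ?_)))
    have hc2 : θ (J zh) * θ (J (xh ^ k)) = θ (J (xh ^ k)) * θ (J zh) := by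
      rw [hθJ, hθJ, hzh, ← map_mul (ChevFixed.groupMap D ι), ← hcomm, map_mul]
    simp only [hs', map_mul, map_inv, conj_mul, hc2]
  · exact Subgroup.le_centralizer (H := H)

end CfsgLib.Known.ScTorus
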