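import Cfsg.Agent.Lib.Known.ScTorus.Main

/-!
# Monomial elements attached to regular elements of prime order
-/

set_option autoImplicit false
set_option maxHeartbeats 3200000

namespace CfsgLib.Known.ScTorus

open Cfsg.Lie (ChevalleyDatum)
open CfsgLib.Lie.Chev
open CfsgLib.Known.CyclicTorus (cvec castV wMat HasTorus BilOK)
open CfsgLib.Known.Homocyclic (WeylLike)
open scoped Matrix
open Polynomial

variable {D : ChevalleyDatum} {X : Aux}

/-- A monomial element attached to an element of order `r` by the field automorphism. -/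
theorem exists_frobenius_monomial (C : Cert D X) {M U U' V V' : List (List ℤ)} {dd degs : List ℕ}
    (hM : cmat D = M) (hchk : chkSmith D.rank M U U' V V' dd = true)
    (hp : chkPoly M D.rank (half D) degs = true) (hlen : degs.length = D.rank)
    (hdd : ∀ i : Fin D.rank, dd.getD i 0 ∣ degs.prod) (hSL : SLaced D X)
    {L : List (ℕ × ℕ × ℕ × List ℤ)} (hL : chkWits D X L = true) {I : List ℕ}
    (hI : chkEmb D Cfsg.Lie.chevE8 I = true)
    {F : Type*} [Field F] [Fintype F] {K : Type*} [Field K] [Fintype K] [Algebra F K]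
    {q n r : ℕ} [Fact r.Prime] (hF : Fintype.card F = q) (hK : Fintype.card K = q ^ n) (hn : 0 < n)
    (hrN' : r ∣ q ^ n - 1) (hrq : ¬ r ∣ q) (hrW : ¬ r ∣ degs.prod) (hrG : ∃ k ∈ degs, r ∣ q ^ k - 1)
    {f : ℤ[X]} {P : ℕ} (hT : TorusOK D X f q P r) (σ : K ≃+* K) (hσ : ∀ a, σ a = a ^ q) :
    ∃ (Y : D.SteinbergGroup K) (m : (stRel C K hL).NS) (c : Fin D.rank → Kˣ), c ≠ 1 ∧ c ^ r = 1 ∧
      stMap C hL σ.toRingHom Y = m * Y ∧
      (m : D.SteinbergGroup K) * ((stRel C K hL).torusHom c : (stRel C K hL).HS) * (m : D.SteinbergGroup K)⁻¹ =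
        stMap C hL σ.toRingHom ((stRel C K hL).torusHom c : (stRel C K hL).HS) := by
  classical
  have hr : r.Prime := Fact.out
  have hq1 : 1 < q := hF ▸ Fintype.one_lt_card
  obtain ⟨Q, hQ⟩ : ∃ Q, Q = q ^ n := ⟨_, rfl⟩
  obtain ⟨N, hN⟩ : ∃ N, N = Nat.card Kˣ := ⟨_, rfl⟩
  have hQ1 : 1 < Q := hQ ▸ Nat.one_lt_pow hn.ne' hq1
  have hNQ : N = Q - 1 := by rw [hN, Nat.card_units, Nat.card_eq_fintype_card, hK, hQ]
  have : NeZero N := ⟨by omega⟩
  have hrN : r ∣ N := by rw [hNQ, hQ]; exact hrN'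
  have hdeg : ∀ e ∈ degs, ¬ r ∣ e := fun e he h => hrW (h.trans (List.dvd_prod he))
  have hrQ : ¬ r ∣ Q := fun h => hrq (hr.dvd_of_dvd_pow (hQ ▸ h))
  -- the torus of `G(K)` contains a Sylow subgroup
  have hQord : 1 = orderOf (Q : ZMod r) := by
    have h : ((Q - 1 : ℕ) : ZMod r) = 0 := (ZMod.natCast_eq_zero_iff _ _).2 (hNQ ▸ hrN)
    rw [Nat.cast_sub hQ1.le, Nat.cast_one, sub_eq_zero] at h
    rw [h, orderOf_one]
  have hvalK : padicValNat r (Nat.card ↥(D.group K)) = padicValNat r N * D.rank := by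
    rw [Homocyclic.padicValNat_card_group C hM hchk hp hdd hrW K (hK.trans hQ.symm) hrQ, List.map_congr_left
      fun e he => Homocyclic.padicValNat_pow_sub_one hQ1 hQord one_pos (hdeg e he),
      Homocyclic.sum_map_ite_eq, pow_one, ← hNQ, List.filter_eq_self.2 fun e _ => by simp, hlen]
  have hvalH : padicValNat r (Nat.card ↥(chevRel C K).HS) = padicValNat r N * D.rank := by
    have h := card_HS_mul C K hM hchk
    rw [hK, ← hQ] at h
    have h2 := congrArg (padicValNat r) h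
    rw [padicValNat.mul (fun h0 => by rw [h0, zero_mul] at h; exact pow_ne_zero _ (by omega) h.symm)
      Nat.card_pos.ne', Homocyclic.padicValNat_prod_gcd hdd hrW, zero_add, padicValNat.pow, ← hNQ, mul_comm] at h2
    exact h2
  obtain ⟨S0, -⟩ : ∃ S0 : Sylow r ↥(chevRel C K).HS, True := ⟨Classical.arbitrary _, trivial⟩
  obtain ⟨S1, hS1⟩ : ∃ S1 : Sylow r ↥(D.group K),
      (S1 : Subgroup ↥(D.group K)) = (S0 : Subgroup _).map (chevRel C K).HS.subtype := by
    refine ⟨Sylow.ofCard ((S0 : Subgroup _).map (chevRel C K).HS.subtype) ?_, rfl⟩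
    rw [Subgroup.card_map_of_injective (Subgroup.subtype_injective _), S0.card_eq_multiplicity]
    refine congrArg (r ^ ·) ?_
    rw [Nat.factorization_def _ hr, Nat.factorization_def _ hr, hvalH, hvalK]
  -- an element of order `r`
  obtain ⟨x, hx⟩ : ∃ x : ↥(D.group F), orderOf x = r := by
    refine exists_prime_orderOf_dvd_card' r ?_
    have h := card_group C F hM hchk hp hF
    have hcop : ¬ r ∣ ∏ i : Fin D.rank, Nat.gcd (q - 1) (dd.getD i 0) := fun hd => by
      obtain ⟨i, -, hi⟩ := (Prime.dvd_finsetProd_iff hr.prime _).1 hd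
      exact hrW ((hi.trans (Nat.gcd_dvd_right _ _)).trans (hdd i))
    refine (hr.dvd_mul.1 (h ▸ dvd_mul_of_dvd_right ?_ _)).resolve_left hcop
    obtain ⟨k, hk, hrk⟩ := hrG
    exact hrk.trans (List.dvd_prod (List.mem_map_of_mem hk))
  obtain ⟨ι, hι⟩ : ∃ ι : F →+* K, ι = algebraMap F K := ⟨_, rfl⟩
  have hσι : ∀ c, σ (ι c) = ι c := fun c => by rw [hσ, ← map_pow, ← hF, FiniteField.pow_card]
  have hj : ∀ a : K, σ a = a ↔ a ∈ ι.range := by
    refine fun a => ⟨fun ha => ?_, fun ⟨c, hc⟩ => hc ▸ hσι c⟩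
    rcases eq_or_ne a 0 with rfl | ha0
    · exact zero_mem _
    · obtain ⟨c, hc⟩ := PSLTori.exists_algebraMap_eq (F := F) a (mul_right_cancel₀ ha0 (by
        rw [hF, ← pow_succ, Nat.sub_add_cancel hq1.le, ← hσ, ha, one_mul]))
      exact ⟨c, by rw [hι, hc]⟩
  -- the universal group
  have hE8 := chevRel_torusHom_injective certE8 K cmat_E8 smithE8 (by decide +kernel)
  have hinjK : Function.Injective (stRel C K hL).torusHom :=
    stRel_torusHom_injective (chevRel certE8 K) C hI hL hE8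
  obtain ⟨θ, hθ⟩ : ∃ θ, θ = stTheta (D := D) C K := ⟨_, rfl⟩
  obtain ⟨θF, hθF⟩ : ∃ θ, θ = stTheta (D := D) C F := ⟨_, rfl⟩
  obtain ⟨J, hJ⟩ : ∃ J, J = stMap C hL ι := ⟨_, rfl⟩
  obtain ⟨φ, hφ⟩ : ∃ φ, φ = stMap C hL σ.toRingHom := ⟨_, rfl⟩
  have hJinj : Function.Injective J := hJ ▸ stMap_injective C hL ι hinjK
  have hφJ : ∀ g, φ (J g) = J g := fun g => by
    rw [hφ, hJ, stMap_comp]
    exact congrArg (fun k => stMap C hL k g) (RingHom.ext fun a => hσι a)
  have hθJ : ∀ g, θ (J g) = ChevFixed.groupMap D ι (θF g) := fun g => by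
    rw [hθ, hθF, hJ]; exact stTheta_stMap C hL ι g
  have hθker : ∀ g, θ g ∈ (chevRel C K).HS → g ∈ (stRel C K hL).HS := by
    intro g hg
    obtain ⟨c, hc⟩ := (chevRel C K).torusHom_surjective ⟨θ g, hg⟩
    have h1 : θ g = θ ((stRel C K hL).torusHom c : D.SteinbergGroup K) := by
      rw [hθ, stTheta_torusHom, hc, ← hθ]
    have h2 : g * (((stRel C K hL).torusHom c : D.SteinbergGroup K))⁻¹ ∈ (stRel C K hL).HS :=
      (stRel C K hL).ker_le_HS (MonoidHom.mem_ker.1 (by
        rw [ker_stRel, MonoidHom.mem_ker, ← hθ, map_mul, map_inv, h1, mul_inv_cancel]))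
    have h3 := mul_mem h2 ((stRel C K hL).torusHom c).2
    rwa [inv_mul_cancel_right] at h3
  obtain ⟨xh, hxh⟩ := stTheta_surjective C F x
  rw [← hθF] at hxh
  obtain ⟨P1, hP1⟩ := (IsPGroup.of_card (n := 1) (p := r) (G := Subgroup.zpowers (θ (J xh)))
    (by rw [Nat.card_zpowers, hθJ, hxh, orderOf_injective _ (ChevFixed.groupMap_injective ι), hx, pow_one])).exists_le_sylow
  obtain ⟨Y0, hY⟩ := MulAction.exists_smul_eq ↥(D.group K) P1 S1
  obtain ⟨Y, hY0⟩ := stTheta_surjective C K Y0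
  rw [← hθ] at hY0
  have hsH : Y * J xh * Y⁻¹ ∈ (stRel C K hL).HS := by
    refine hθker _ ?_
    rw [map_mul, map_mul, map_inv, hY0]
    have h1 : Y0 * θ (J xh) * Y0⁻¹ ∈ (S1 : Subgroup ↥(D.group K)) := by
      rw [← hY, Sylow.coe_subgroup_smul, Subgroup.mem_pointwise_smul_iff_inv_smul_mem, MulAut.smul_def,
        ← map_inv, MulAut.conj_apply]
      simpa [mul_assoc] using hP1 (Subgroup.mem_zpowers (θ (J xh)))
    rw [hS1] at h1
    exact Subgroup.map_subtype_le _ h1
  -- coordinates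
  obtain ⟨lgE, -⟩ : ∃ e : Additive Kˣ ≃+ ZMod N, True :=
    ⟨hN ▸ (MulEquiv.toAdditive (zmodCyclicMulEquiv (G := Kˣ) inferInstance).symm).trans
      (AddEquiv.additiveMultiplicative _), trivial⟩
  obtain ⟨lg, hlg⟩ : ∃ lg : Kˣ → ZMod N, ∀ u, lg u = lgE (Additive.ofMul u) := ⟨_, fun _ => rfl⟩
  have hlg_mul : ∀ u w, lg (u * w) = lg u + lg w := fun u w => by rw [hlg, hlg, hlg, ofMul_mul, map_add]
  have hlg_zpow : ∀ (u : Kˣ) (z : ℤ), lg (u ^ z) = (z : ZMod N) * lg u := fun u z => by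
    rw [hlg, hlg, ofMul_zpow, map_zsmul, zsmul_eq_mul]
  have hlg_pow : ∀ (u : Kˣ) (z : ℕ), lg (u ^ z) = (z : ZMod N) * lg u := fun u z => by
    rw [← zpow_natCast, hlg_zpow, Int.cast_natCast]
  have hlg_prod : ∀ f : Fin D.rank → Kˣ, lg (∏ i, f i) = ∑ i, lg (f i) := fun f => by
    rw [hlg, ofMul_prod, map_sum]
    exact Finset.sum_congr rfl fun i _ => (hlg _).symm
  have hlg_inj : Function.Injective lg := fun u w h => by
    rw [hlg, hlg] at h
    exact Additive.ofMul.injective (lgE.injective h)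
  have hlg_one : lg 1 = 0 := by rw [hlg, ofMul_one, map_zero]
  obtain ⟨co, hco⟩ : ∃ co : (Fin D.rank → Kˣ) → Fin D.rank → ZMod N, ∀ c i, co c i = lg (c i) := ⟨_, fun _ _ => rfl⟩
  have hco_inj : Function.Injective co := fun c c' h => funext fun i => hlg_inj (by rw [← hco, ← hco, h])
  have hco_surj : Function.Surjective co := fun a => ⟨fun i => Additive.toMul (lgE.symm (a i)), funext fun i => by
    rw [hco, hlg, ofMul_toMul, AddEquiv.apply_symm_apply]⟩
  have hco_mul : ∀ c c', co (c * c') = co c + co c' := fun c c' => funext fun i => by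
    simp only [Pi.add_apply, hco, Pi.mul_apply, hlg_mul]
  have hco_pow : ∀ c (z : ℕ), co (c ^ z) = (z : ZMod N) • co c := fun c z => funext fun i => by
    simp only [Pi.smul_apply, smul_eq_mul, hco, Pi.pow_apply, hlg_pow]
  have hco_one : co 1 = 0 := funext fun i => by simp [hco, hlg_one]
  obtain ⟨T, hTdef⟩ : ∃ T : (Fin D.rank → Kˣ) →* D.SteinbergGroup K,
      T = ((stRel C K hL).HS.subtype).comp (stRel C K hL).torusHom := ⟨_, rfl⟩
  have hTmem : ∀ c, T c ∈ (stRel C K hL).HS := fun c => by rw [hTdef]; exact SetLike.coe_mem _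
  have hTsurj : ∀ g ∈ (stRel C K hL).HS, ∃ c, T c = g := fun g hg => by
    obtain ⟨c, hc⟩ := (stRel C K hL).torusHom_surjective ⟨g, hg⟩
    exact ⟨c, by rw [hTdef, MonoidHom.comp_apply, hc]; rfl⟩
  have hTinj : Function.Injective T := hTdef ▸ (Subgroup.subtype_injective _).comp hinjK
  have hφT : ∀ c, φ (T c) = T (c ^ q) := fun c => by
    rw [hφ, hTdef, MonoidHom.comp_apply, MonoidHom.comp_apply]
    refine (stMap_torusHom C hL σ.toRingHom c).trans ?_
    refine congrArg (fun c => (((stRel C K hL).torusHom c : (stRel C K hL).HS) : D.SteinbergGroup K))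
      (funext fun i => Units.ext ?_)
    simp [hσ]
  obtain ⟨Wof, hWof⟩ : ∃ Wof : (stRel C K hL).NS → Matrix (Fin D.rank) (Fin D.rank) ℤ,
      ∀ m, Wof m = wMat (stRel C K hL) ((stRel C K hL).nsPerm m) := ⟨_, fun _ => rfl⟩
  have htw : ∀ (m : (stRel C K hL).NS) c, (m : D.SteinbergGroup K) * T c * (m : D.SteinbergGroup K)⁻¹ = φ (T c) ↔
      co c ᵥ* (Wof m).map (Int.cast : ℤ → ZMod N) = (q : ZMod N) • co c := by
    intro m c
    have h : (m : D.SteinbergGroup K) * T c * (m : D.SteinbergGroup K)⁻¹ = T (powMat Kˣ (Wof m) c) := by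
      rw [hTdef, MonoidHom.comp_apply, MonoidHom.comp_apply, hWof]
      exact conj_torusHom (stRel C K hL) hSL m c
    rw [h, hφT, hTinj.eq_iff, ← hco_inj.eq_iff, hco_pow]
    refine Eq.congr_left (funext fun j => ?_)
    rw [hco, powMat_apply, hlg_prod]
    simp only [Matrix.vecMul, dotProduct, Matrix.map_apply, hlg_zpow, hco]
    exact Finset.sum_congr rfl fun i _ => mul_comm _ _
  -- consequences of an eigenvector of order `r`
  obtain ⟨e, he⟩ := hrN
  have hkey : ∀ (m : (stRel C K hL).NS) c, co c ≠ 0 → (∀ i, (r : ZMod N) * co c i = 0) →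
      co c ᵥ* (Wof m).map (Int.cast : ℤ → ZMod N) = (q : ZMod N) • co c →
      (Wof m).charpoly = f ∧ (∀ g, g * θ (T c) = θ (T c) * g → g ∈ (chevRel C K).HS) ∧
      ∀ p : ℕ, p.Prime → p ^ 2 ∣ P → Nat.card {b : Fin D.rank → ZMod p //
          b ᵥ* (Wof m).map (Int.cast : ℤ → ZMod p) = (q : ZMod p) • b} ≤ p := by
    intro m c hc0 hrc heig
    obtain ⟨b, hb, hbeig⟩ := exists_lift_eigen hr.pos he (co c) hrc
    have e0 : 0 < e := Nat.pos_of_ne_zero fun h => by rw [h, mul_zero] at he; exact NeZero.ne N he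
    have hb0 : (fun i => (b i : ZMod r)) ≠ 0 := by
      intro h
      refine hc0 (funext fun i => ?_)
      obtain ⟨w, hw⟩ := (ZMod.natCast_eq_zero_iff _ _).1 (congrFun h i)
      rw [hb i, hw, ← mul_assoc, mul_comm e, ← he, Nat.cast_mul, ZMod.natCast_self, zero_mul, Pi.zero_apply]
    have hfin : ∃ o, 0 < o ∧ Wof m ^ o = 1 :=
      ⟨_, orderOf_pos ((stRel C K hL).nsPerm m), by
        rw [hWof, ← CyclicTorus.wMat_pow (stRel C K hL) ((stRel C K hL).isLin_nsPerm _), pow_orderOf_eq_one,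
          CyclicTorus.wMat_one]⟩
    obtain ⟨hf, hreg, hsoc⟩ := hT (Wof m) (hWof m ▸ Homocyclic.weylLike (stRel C K hL) m) hfin _ hb0
      (hbeig _ _ heig)
    refine ⟨hf, ?_, hsoc⟩
    -- regularity in the Chevalley group
    obtain ⟨R, hR⟩ : ∃ R, R = chevRel C K := ⟨_, rfl⟩
    rw [← hR]
    have hθT : θ (T c) = ((R.torusHom c : R.HS) : ↥(D.group K)) := by
      rw [hθ, hTdef, hR]; exact stTheta_torusHom C K hL c
    obtain ⟨val, hval⟩ : ∃ val : Fin D.nroots → Kˣ, ∀ s, val s = ∏ i : Fin D.rank, c i ^ D.cartan i s :=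
      ⟨_, fun _ => rfl⟩
    obtain ⟨v, hv⟩ : ∃ v : Fin D.nroots → ZMod r, ∀ s, v s = ∑ i : Fin D.rank, (b i : ZMod r) * (D.cartan i s : ZMod r) :=
      ⟨_, fun _ => rfl⟩
    have hlgval : ∀ s, lg (val s) = (((e : ℤ) * ∑ i : Fin D.rank, (b i : ℤ) * D.cartan i s : ℤ) : ZMod N) := by
      intro s
      rw [hval, hlg_prod]
      simp only [hlg_zpow, ← hco, hb]
      push_cast
      rw [Finset.mul_sum]
      exact Finset.sum_congr rfl fun i _ => by ring
    have hvv : ∀ s s', val s = val s' → v s = v s' := by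
      intro s s' h
      have h1 := congrArg lg h
      rw [hlgval, hlgval, ZMod.intCast_eq_intCast_iff_dvd_sub, he, Nat.cast_mul, mul_comm (r : ℤ), ← mul_sub] at h1
      have h2 := (mul_dvd_mul_iff_left (by exact_mod_cast e0.ne' : (e : ℤ) ≠ 0)).1 h1
      rw [← ZMod.intCast_eq_intCast_iff_dvd_sub] at h2
      simpa [hv] using h2
    have hv1 : ∀ s, val s ≠ 1 := by
      intro s h
      have h1 := congrArg lg h
      rw [hlgval, hlg_one, ZMod.intCast_zmod_eq_zero_iff_dvd, he, Nat.cast_mul, mul_comm (r : ℤ)] at h1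
      have h2 := (ZMod.intCast_zmod_eq_zero_iff_dvd _ r).2
        ((mul_dvd_mul_iff_left (by exact_mod_cast e0.ne' : (e : ℤ) ≠ 0)).1 h1)
      exact hreg s (by simpa using h2)
    intro g hg
    rw [hθT] at hg
    refine RegularTorus.mem_HS_of_commute' R (R.torusHom c).2 (TrialityTorus.isMon_torusHom R c)
      (fun s h => hv1 s (Units.ext (by rw [hval]; exact h))) (fun w hw => ?_) hg
    obtain ⟨ρ, hρ⟩ : ∃ ρ, ρ = R.nsPerm w := ⟨_, rfl⟩
    have hlin : R.IsLin ρ := hρ ▸ R.isLin_nsPerm w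
    obtain ⟨o, ho⟩ : ∃ o, o = orderOf ρ := ⟨_, rfl⟩
    have hro : ¬ r ∣ o := by
      intro hro
      subst hR
      have h1 : o ∣ Nat.card (chevRel C K).WQ := by
        rw [ho, hρ, ← (chevRel C K).qact_qmk]
        exact (orderOf_map_dvd _ _).trans (orderOf_dvd_natCard _)
      have h2 : Nat.card (chevRel C K).WQ * Nat.card ↥(chevRel C K).HS = Nat.card ↥(chevRel C K).NS := by
        rw [← Nat.card_congr (Subgroup.subgroupOfEquivOfLe (chevRel C K).HS_le_NS).toEquiv]
        exact (Subgroup.card_eq_card_quotient_mul_card_subgroup _).symm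
      have h3 : r ^ (padicValNat r N * D.rank + 1) ∣ Nat.card ↥(D.group K) := by
        refine Dvd.dvd.trans ?_ (h2 ▸ Subgroup.card_subgroup_dvd_card (chevRel C K).NS)
        rw [pow_succ', ← hvalH]
        exact mul_dvd_mul (hro.trans h1) pow_padicValNat_dvd
      rw [← hvalK] at h3
      exact pow_succ_padicValNat_not_dvd Nat.card_pos.ne' h3
    -- the simple root values determine the others
    obtain ⟨u, hu⟩ : ∃ u : Fin D.rank → ℤ, ∀ j, u j = ∑ i : Fin D.rank, (b i : ℤ) * D.cartan i (D.simple j) :=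
      ⟨_, fun _ => rfl⟩
    have hcv : ∀ s : Fin D.nroots, ((cvec D X s ⬝ᵥ u : ℤ) : ZMod r) = v s := by
      intro s
      rw [hv]
      simp only [dotProduct, hu, cvec, Finset.mul_sum]
      rw [Int.cast_sum]
      simp only [Int.cast_sum]
      rw [Finset.sum_comm]
      refine Finset.sum_congr rfl fun i _ => ?_
      rw [C.cartan_eq s.2 i.2, Finset.sum_range, Int.cast_sum, Finset.mul_sum]
      exact Finset.sum_congr rfl fun j _ => by push_cast; ring
    have hwk : ∀ (k : ℕ) (s : Fin D.nroots), v ((ρ ^ k) s) = v s := by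
      intro k
      induction k with
      | zero => intro s; rw [pow_zero, Equiv.Perm.one_apply]
      | succ k ih =>
        intro s
        rw [pow_succ, Equiv.Perm.mul_apply, ih, hρ]
        exact hvv _ _ (Units.ext (by rw [hval, hval]; exact hw s))
    obtain ⟨y, hy⟩ : ∃ y : Fin D.rank → ℤ, y = ∑ k ∈ Finset.range o, wMat R ρ ^ k *ᵥ u := ⟨_, rfl⟩
    refine CyclicTorus.mem_HS_of_fix_functional R y (fun s h => ?_) w fun s => ?_
    · have h1 : ((cvec D X s ⬝ᵥ y : ℤ) : ZMod r) = (o : ZMod r) * v s := by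
        rw [hy, dotProduct_sum, Int.cast_sum, Finset.sum_congr rfl fun k _ => ?_, Finset.sum_const, Finset.card_range,
          nsmul_eq_mul]
        rw [Matrix.dotProduct_mulVec, ← CyclicTorus.wMat_pow R hlin,
          CyclicTorus.vecMul_wMat R (CyclicTorus.isLin_pow R hlin k), hcv, hwk]
      rw [h, Int.cast_zero] at h1
      rcases mul_eq_zero.1 h1.symm with h2 | h2
      · exact hro ((ZMod.natCast_eq_zero_iff _ _).1 h2)
      · exact hreg s ((hv s).symm.trans h2)
    · have hWy : wMat R ρ *ᵥ y = y := by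
        rw [hy, Matrix.mulVec_sum]
        simp only [Matrix.mulVec_mulVec, ← pow_succ']
        have h0 := Finset.sum_range_succ' (fun i => wMat R ρ ^ i *ᵥ u) o
        rw [Finset.sum_range_succ] at h0
        have ho1 : wMat R ρ ^ o = 1 := by
          rw [← CyclicTorus.wMat_pow R hlin, ho, pow_orderOf_eq_one, CyclicTorus.wMat_one]
        rw [ho1, pow_zero] at h0
        exact (add_right_cancel h0).symm
      rw [← hρ, ← CyclicTorus.vecMul_wMat R hlin, ← Matrix.dotProduct_mulVec, hWy]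
  -- the twisting element
  obtain ⟨cs, hcs⟩ := hTsurj _ hsH
  -- the `r`-part of a lift
  obtain ⟨cs', hcs'⟩ : ∃ cs' : Fin D.rank → Kˣ, co cs' ≠ 0 ∧ (∀ i, (r : ZMod N) * co cs' i = 0) ∧
      ∃ k : ℕ, cs' = cs ^ k := by
    obtain ⟨o, ho⟩ : ∃ o, o = orderOf cs := ⟨_, rfl⟩
    have hro : r ∣ o := by
      have h1 : orderOf (θ (T cs)) ∣ o := ho ▸ (orderOf_map_dvd θ _).trans (orderOf_map_dvd T cs)
      rw [hcs] at h1
      rw [← hx]
      refine Dvd.dvd.trans ?_ h1
      rw [map_mul, map_mul, map_inv, hθJ, hxh]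
      refine dvd_of_eq ?_
      rw [← orderOf_injective _ (ChevFixed.groupMap_injective ι) x]
      exact ((orderOf_injective (MulAut.conj (θ Y)).toMonoidHom (MulAut.conj (θ Y)).injective
        (ChevFixed.groupMap D ι x)).symm.trans (by simp [MulAut.conj_apply]))
    obtain ⟨k, hk⟩ := hro
    refine ⟨cs ^ k, fun h => ?_, fun i => ?_, k, rfl⟩
    · have h1 : cs ^ k = 1 := hco_inj (h.trans hco_one.symm)
      have h2 := orderOf_dvd_of_pow_eq_one h1
      rw [← ho, hk] at h2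
      have hk0 : 0 < k := Nat.pos_of_ne_zero fun h0 => by
        rw [h0, mul_zero] at hk; rw [hk] at ho; exact (orderOf_pos cs).ne ho
      have h3 := Nat.le_of_dvd hk0 h2
      have h4 := Nat.mul_le_mul_right k hr.two_le
      omega
    · have h := congrFun (hco_pow (cs ^ k) r) i
      rw [← pow_mul, mul_comm, ← hk, ho, pow_orderOf_eq_one, hco_one] at h
      simpa using h.symm
  obtain ⟨hcs0, hcsr, k, hk⟩ := hcs'
  have hs' : T cs' = Y * J (xh ^ k) * Y⁻¹ := by rw [hk, map_pow, hcs, conj_pow, map_pow]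
  have hg : φ Y * Y⁻¹ * T cs' * (φ Y * Y⁻¹)⁻¹ = φ (T cs') := by
    rw [hs', map_mul, map_mul, map_inv, hφJ]; group
  obtain ⟨m0, hm0, hm0'⟩ := (stRel C K hL).exists_NS_conj (g := φ Y * Y⁻¹) (hTmem cs')
    (h₂ := φ (T cs')) (by rw [hφT]; exact hTmem _) (by rw [← hg]; group)
  have hgH : m0⁻¹ * (φ Y * Y⁻¹) ∈ (stRel C K hL).HS := by
    refine hθker _ ((hkey ⟨m0, hm0⟩ cs' hcs0 hcsr ((htw ⟨m0, hm0⟩ cs').1 hm0')).2.1 _ ?_)
    have h := hg.trans hm0'.symm
    rw [← map_mul, ← map_mul]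
    generalize φ Y * Y⁻¹ = g at h ⊢
    have h5 : g * T cs' = m0 * T cs' * m0⁻¹ * g := by rw [← h]; group
    rw [mul_assoc m0⁻¹, h5]; group
  obtain ⟨m, hm⟩ : ∃ m : (stRel C K hL).NS, (m : D.SteinbergGroup K) = φ Y * Y⁻¹ :=
    ⟨⟨_, by simpa [mul_assoc] using mul_mem hm0 ((stRel C K hL).HS_le_NS hgH)⟩, rfl⟩
  refine ⟨Y, m, cs', fun h => hcs0 (by rw [h, hco_one]), ?_, by rw [← hφ, hm, inv_mul_cancel_right], ?_⟩
  · refine hco_inj ((hco_pow cs' r).trans (funext fun i => ?_))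
    rw [hco_one, Pi.smul_apply, Pi.zero_apply, smul_eq_mul, hcsr]
  · have h := hg
    rw [← hm, hTdef, MonoidHom.comp_apply, hφ] at h
    exact h

end CfsgLib.Known.ScTorus
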